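import Cfsg.Agent.H657.IBrBlock
import Cfsg.Agent.Blocks.PrincipalSection
import Mathlib
import Cfsg.Agent.H686.K4.Integral
import Cfsg.Agent.Characters.GaloisBasic
import Cfsg.Agent.S0907
import Cfsg.Agent.Blocks.AvgIntegral
import Cfsg.Agent.S0848
import Cfsg.Agent.H595.AbCount
import Cfsg.Agent.S0960
import Cfsg.Agent.H71.HSpanQuot
import Cfsg.Agent.H649.Transport
import Cfsg.Agent.H650.E27Central
import Cfsg.Agent.H836.Sylow
import Cfsg.Agent.Blocks.Central
import Cfsg.Agent.Blocks.Basic
import Cfsg.Agent.H685.Alperin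
import Cfsg.Agent.H825.HT.Tools
import Cfsg.Agent.H611.CoverPrincipal
import Cfsg.Agent.CharDeep.CliffordCorr
import Cfsg.Agent.CharactersDeep.NormalInd
import Cfsg.Agent.Blocks.Orthogonality
import Cfsg.Agent.FastGrp
import Cfsg.Agent.Prune
set_option linter.all false

section
prune_inst 0x7f00000000000000000000000000000000000000000000000000000000000000000000000000000000000000000000000000000000000000000000000000000000000000000000000000000000000000003fffffffffffffffffffffffffffbeffbdfbfeffff

-- part: H973/RankMod/Prin_mg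
section
prune_inst 0x4010000
set_option linter.all false
open scoped Cfsg.Agent.FastGrp

-- part: H634/OneP/Def
section
/-!
# S4880, block half: reduction of complex functions modulo a valuation ring
-/

set_option autoImplicit false

open Cfsg IsLocalRing

namespace Cfsg.Agent.H634.OneP

/-- The reduction of a complex function (`0` where the value is not in `V`). -/
noncomputable def rd (V : ValuationSubring ℂ) {G : Type*} (θ : G → ℂ) (g : G) : ResidueField V :=
  open Classical in if h : θ g ∈ V then residue V ⟨θ g, h⟩ else 0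

theorem rd_of {V : ValuationSubring ℂ} {G : Type*} {θ : G → ℂ} {g : G} (h : θ g ∈ V) :
    rd V θ g = residue V ⟨θ g, h⟩ := by
  unfold rd
  rw [dif_pos h]

end Cfsg.Agent.H634.OneP
end

-- part: H973/RankMod/Base
section
/-!
# The rank modulo `V` of a union of blocks (S4880, piece B5)

`rank_mod_of`: if the reductions of the irreducible characters span the class functions on the
`p`-regular elements (piece B2, as a hypothesis), then for a union of blocks `B` the reductions of
the members of `B` span a space of dimension at least `blockRank p B`.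
-/

set_option autoImplicit false

namespace Cfsg.Agent.H973.RankMod

open Cfsg IsLocalRing Module Cfsg.Agent.H657 Cfsg.Agent.H634.OneP Cfsg.Agent.H608.BlockRank

universe u

attribute [local instance] Above.isAlgClosed

variable {G : Type u} [Group G] [Finite G] {p : ℕ} {M : Ideal AlgInt} {V : ValuationSubring ℂ}

/-- The restriction to the `p`-regular elements. -/
def res (p : ℕ) {K : Type*} (f : G → K) : {s : G // ¬ p ∣ orderOf s} → K := fun s => f s

/-- The irreducible modular characters are linearly independent on the `p`-regular elements. -/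
theorem linearIndependent_res (hM : IsPModular p M) (hV : Above M V) :
    LinearIndependent (ResidueField V)
      (fun i : IBr V G => (res p (i.1 : G → ResidueField V))) := by
  classical
  have : Fact p.Prime := ⟨hM.1⟩
  have : CharP (ResidueField V) p := hV.charP hM
  have := Fintype.ofFinite (IBr V G)
  rw [Fintype.linearIndependent_iff]
  intro c hc
  refine Fintype.linearIndependent_iff.1 (linearIndependent_ibr (V := V) (G := G)) c ?_
  funext g
  obtain ⟨x, y, hxy, hcomm, ⟨k, hk⟩, hy⟩ := Blocks.PPart.exists_isPPart p g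
  have hx : x ^ p ^ k = 1 := by rw [← hk, pow_orderOf_eq_one]
  have h1 := congrFun hc ⟨y, hy⟩
  rw [Finset.sum_apply, Pi.zero_apply] at h1 ⊢
  rw [← h1]
  refine Finset.sum_congr rfl fun i _ => ?_
  show c i * i.1 g = c i * i.1 y
  rw [← hxy, ibr_apply_pPart i hcomm hx]

/-- The reduction of an irreducible character on the `p`-regular elements is a sum of irreducible
modular characters under it. -/
theorem rd_mem_span (hM : IsPModular p M) (hV : Above M V) (χ : IrrCharacter G) :
    res p (rd V (χ : G → ℂ)) ∈ Submodule.span (ResidueField V)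
      ((fun i : IBr V G => res p (i.1 : G → ResidueField V)) '' {i | Under i (χ : G → ℂ)}) := by
  have : Fact p.Prime := ⟨hM.1⟩
  have : CharP (ResidueField V) p := hV.charP hM
  obtain ⟨m, idx, h1, h2⟩ := exists_decomp hM hV χ.2
  have h3 : res p (rd V (χ : G → ℂ)) = ∑ l, res p ((idx l).1 : G → ResidueField V) := by
    funext s
    rw [Finset.sum_apply]
    choose z hz1 hz2 using fun l => phi_spec (p := p) (idx l) (g := (s : G)) s.2
    have h4 : (χ : G → ℂ) s = ((∑ l, z l : V) : ℂ) := by
      rw [h2 s s.2]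
      push_cast
      exact Finset.sum_congr rfl fun l _ => hz1 l
    have h5 : (χ : G → ℂ) s ∈ V := by rw [h4]; exact (∑ l, z l : V).2
    show rd V (χ : G → ℂ) s = ∑ l, (idx l).1 s
    rw [rd_of h5]
    have h6 : (⟨(χ : G → ℂ) s, h5⟩ : V) = ∑ l, z l := Subtype.ext h4
    rw [h6, map_sum]
    exact Finset.sum_congr rfl fun l _ => hz2 l
  rw [h3]
  exact Submodule.sum_mem _ fun l _ => Submodule.subset_span ⟨_, h1 l, rfl⟩

theorem span_rd_le (hM : IsPModular p M) (hV : Above M V) (B : Set (IrrCharacter G)) :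
    Submodule.span (ResidueField V) ((fun χ : IrrCharacter G => res p (rd V (χ : G → ℂ))) '' B) ≤
      Submodule.span (ResidueField V)
        ((fun i : IBr V G => res p (i.1 : G → ResidueField V)) '' ibrUnder V B) := by
  rw [Submodule.span_le]
  rintro _ ⟨χ, hχ, rfl⟩
  refine Submodule.span_mono (Set.image_mono ?_) (rd_mem_span hM hV χ)
  exact fun i hi => ⟨χ, hχ, hi⟩

/-- Each irreducible modular character in `B` is on the `p`-regular elements a combination of the
reductions of the members of `B`. -/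
theorem ibr_mem_span (hM : IsPModular p M) (hV : Above M V)
    (hB2 : ∀ f : G → ResidueField V, (∀ g h : G, f (h * g * h⁻¹) = f g) →
      ∃ a : IrrCharacter G → ResidueField V, ∀ g : G, ¬ p ∣ orderOf g →
        f g = ∑ᶠ χ : IrrCharacter G, a χ * rd V (χ : G → ℂ) g)
    {B : Set (IrrCharacter G)} (hB : IsUnion M B) {i : IBr V G} (hi : i ∈ ibrUnder V B) :
    res p (i.1 : G → ResidueField V) ∈ Submodule.span (ResidueField V)
      ((fun χ : IrrCharacter G => res p (rd V (χ : G → ℂ))) '' B) := by
  classical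
  have := Characters.Core.finite_irr (G := G)
  have := Fintype.ofFinite (IrrCharacter G)
  have hconj : ∀ g h : G, i.1 (h * g * h⁻¹) = i.1 g := by
    intro g h
    rw [← i.trace_rep, ← i.trace_rep, i.rep.map_mul, LinearMap.trace_mul_comm, ← i.rep.map_mul,
      inv_mul_cancel_left]
  obtain ⟨a, ha⟩ := hB2 i.1 hconj
  set F : IrrCharacter G → ({s : G // ¬ p ∣ orderOf s} → ResidueField V) :=
    fun χ => res p (rd V (χ : G → ℂ)) with hF
  have h1 : res p (i.1 : G → ResidueField V) = ∑ χ : IrrCharacter G, a χ • F χ := by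
    funext s
    rw [Finset.sum_apply]
    show i.1 s = _
    rw [ha s s.2, finsum_eq_sum_of_fintype]
    rfl
  set u := ∑ χ with χ ∈ B, a χ • F χ with hu
  set v := ∑ χ with χ ∉ B, a χ • F χ with hv
  have h2 : res p (i.1 : G → ResidueField V) = u + v := by
    rw [h1, hu, hv]
    exact (Finset.sum_filter_add_sum_filter_not _ _ _).symm
  have hu1 : u ∈ Submodule.span (ResidueField V) (F '' B) :=
    Submodule.sum_mem _ fun χ hχ => Submodule.smul_mem _ _
      (Submodule.subset_span ⟨χ, (Finset.mem_filter.1 hχ).2, rfl⟩)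
  have hv1 : v ∈ Submodule.span (ResidueField V) (F '' Bᶜ) :=
    Submodule.sum_mem _ fun χ hχ => Submodule.smul_mem _ _
      (Submodule.subset_span ⟨χ, (Finset.mem_filter.1 hχ).2, rfl⟩)
  have hu' := span_rd_le hM hV B hu1
  have hv' := span_rd_le hM hV Bᶜ hv1
  have hdisj : Disjoint (ibrUnder V B) (ibrUnder V Bᶜ) := by
    rw [Set.disjoint_left]
    rintro j ⟨χ₁, hχ₁, h1⟩ ⟨χ₂, hχ₂, h2⟩
    exact hχ₂ (hB χ₁ χ₂ (under_sameBlock hM hV χ₁.2 χ₂.2 h1 h2) hχ₁)
  have hd := (linearIndependent_res (G := G) hM hV).disjoint_span_image hdisj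
  rw [Submodule.disjoint_def] at hd
  have h3 : v = res p (i.1 : G → ResidueField V) - u := by rw [h2]; abel
  have h4 := hd v (by
    rw [h3]
    exact Submodule.sub_mem _ (Submodule.subset_span ⟨i, hi, rfl⟩) hu') hv'
  rw [h2, h4, add_zero]
  exact hu1

/-- **The rank modulo `V`**, piece B2 of the plan being a hypothesis. -/
theorem rank_mod_of (hM : IsPModular p M) (hV : Above M V)
    (hB2 : ∀ f : G → ResidueField V, (∀ g h : G, f (h * g * h⁻¹) = f g) →
      ∃ a : IrrCharacter G → ResidueField V, ∀ g : G, ¬ p ∣ orderOf g →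
        f g = ∑ᶠ χ : IrrCharacter G, a χ * rd V (χ : G → ℂ) g)
    {B : Set (IrrCharacter G)} (hB : IsUnion M B) :
    blockRank p B ≤ finrank (ResidueField V)
      (Submodule.span (ResidueField V)
        ((fun χ : IrrCharacter G => fun s : {s : G // ¬ p ∣ orderOf s} => rd V (χ : G → ℂ) s) ''
          B)) := by
  classical
  rw [blockRank_eq_card hM hV hB]
  have := Fintype.ofFinite (ibrUnder V B)
  have h2 : LinearIndependent (ResidueField V)
      (fun i : ibrUnder V B => res p ((i : IBr V G).1 : G → ResidueField V)) :=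
    (linearIndependent_res (G := G) hM hV).comp _ Subtype.val_injective
  rw [Nat.card_eq_fintype_card, ← finrank_span_eq_card h2]
  refine Submodule.finrank_mono ?_
  rw [Submodule.span_le]
  rintro _ ⟨i, rfl⟩
  exact ibr_mem_span hM hV hB2 hB i.2

end Cfsg.Agent.H973.RankMod
end

-- part: H973/RankMod/Prin
section
/-!
# The rank modulo `V` of the principal block (S4880, piece B5), from piece B2
-/

set_option autoImplicit false

namespace Cfsg.Agent.H973.RankMod

open Cfsg IsLocalRing Module Cfsg.Agent.H657 Cfsg.Agent.H634.OneP Cfsg.Agent.H608.BlockRank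

universe u

variable {G : Type u} [Group G] [Finite G] {p : ℕ} {M : Ideal AlgInt} {V : ValuationSubring ℂ}

theorem isUnion_principalBlock (hM : IsPModular p M) : IsUnion M (principalBlock M G) := by
  have := Blocks.Local.isPrime_of_isPModular hM
  have : Fact p.Prime := ⟨hM.1⟩
  exact isUnion_of_isPBlock Blocks.PrincipalSection.isPBlock_principalBlock

/-- **B5 from B2.** -/
theorem rank_mod_prin (hM : IsPModular p M) (hV : Above M V)
    (hB2 : ∀ f : G → ResidueField V, (∀ g h : G, f (h * g * h⁻¹) = f g) →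
      ∃ a : IrrCharacter G → ResidueField V, ∀ g : G, ¬ p ∣ orderOf g →
        f g = ∑ᶠ χ : IrrCharacter G, a χ * rd V (χ : G → ℂ) g) :
    blockRank p (principalBlock M G) ≤ finrank (ResidueField V)
      (Submodule.span (ResidueField V)
        ((fun χ : IrrCharacter G => fun s : {s : G // ¬ p ∣ orderOf s} => rd V (χ : G → ℂ) s) ''
          (principalBlock M G))) :=
  rank_mod_of hM hV hB2 (isUnion_principalBlock hM)

end Cfsg.Agent.H973.RankMod
end

-- part: H25/IsoFrob
section
/-!
# Totally isotropic Frobenius-stable subspaces (S4880, piece B1)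
-/

set_option autoImplicit false

namespace Cfsg.Agent.H25.IsoFrob

open Matrix

variable {K : Type*} [Field K] {B : Type*} [Fintype B]

/-- A subspace of `K^B` has a set of coordinates on which it projects isomorphically. -/
theorem exists_coord (U : Submodule K (B → K)) :
    ∃ (I : Type) (_ : Fintype I) (_ : DecidableEq I) (a : I → B) (φ : U ≃ₗ[K] (I → K)),
      Function.Injective a ∧ ∀ (u : U) (i : I), φ u i = (u : B → K) (a i) := by
  classical
  set f : B → Module.Dual K U := fun b => (LinearMap.proj b).comp U.subtype with hf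
  have hspan : Submodule.span K (Set.range f) = ⊤ := by
    rw [eq_top_iff]
    intro g _
    obtain ⟨h, hh⟩ := LinearMap.dualMap_surjective_of_injective
      (f := U.subtype) U.injective_subtype g
    rw [← hh]
    have : h = ∑ b, h (Pi.single b 1) • (LinearMap.proj b : (B → K) →ₗ[K] K) := by
      apply LinearMap.pi_ext'
      intro b
      ext
      simp [Pi.single_apply]
    rw [this]
    have : (U.subtype.dualMap) (∑ b, h (Pi.single b 1) • (LinearMap.proj b : (B → K) →ₗ[K] K)) =
        ∑ b, h (Pi.single b 1) • f b := by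
      simp [hf, LinearMap.dualMap_apply']
    rw [this]
    exact Submodule.sum_mem _ fun b _ => Submodule.smul_mem _ _ (Submodule.subset_span ⟨b, rfl⟩)
  obtain ⟨J, a, ha, hsp, hli⟩ := exists_linearIndependent' K f
  have : Finite J := Finite.of_injective a ha
  have : Fintype J := Fintype.ofFinite J
  -- transport to a `Type 0` index
  obtain ⟨n, ⟨eJ⟩⟩ : ∃ n, Nonempty (Fin n ≃ J) := ⟨Fintype.card J, ⟨(Fintype.equivFin J).symm⟩⟩
  refine ⟨Fin n, inferInstance, inferInstance, a ∘ eJ, ?_⟩
  have hcard : n = Module.finrank K U := by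
    have h1 := finrank_span_eq_card hli
    rw [hsp, hspan, finrank_top, Subspace.dual_finrank_eq] at h1
    rw [h1, ← Fintype.card_congr eJ, Fintype.card_fin]
  let g : U →ₗ[K] (Fin n → K) := LinearMap.pi fun i => f (a (eJ i))
  have hginj : Function.Injective g := by
    rw [← LinearMap.ker_eq_bot, LinearMap.ker_eq_bot']
    intro u hu
    have h0 : ∀ F : Module.Dual K U, F u = 0 := by
      intro F
      have hF : F ∈ Submodule.span K (Set.range (f ∘ a)) := by rw [hsp, hspan]; trivial
      induction hF using Submodule.span_induction with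
      | mem x hx =>
        obtain ⟨j, rfl⟩ := hx
        have := congrFun hu (eJ.symm j)
        simpa [g] using this
      | zero => rfl
      | add x y _ _ hx hy => simp [hx, hy]
      | smul c x _ hx => simp [hx]
    exact (Module.forall_dual_apply_eq_zero_iff K u).1 h0
  refine ⟨LinearEquiv.ofInjectiveOfFinrankEq g hginj (by simp [hcard]), ha.comp eJ.injective, ?_⟩
  intro u i
  rfl

/-- The statement B1 of `tools/plans/S4880_blk.lean.txt`. -/
theorem isotropic {K : Type*} [Field K] {p : ℕ} [Fact p.Prime] [CharP K p] {B : Type*} [Fintype B]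
    (U : Submodule K (B → K)) (hiso : ∀ v ∈ U, ∀ w ∈ U, ∑ b, v b * w b = 0)
    (hfrob : ∀ v ∈ U, (fun b => v b ^ p) ∈ U) (e : ℕ) (he : e ≤ Module.finrank K U) :
    2 * e ≤ Fintype.card B ∧ (p % 4 = 3 → Odd e → Fintype.card B ≠ 2 * e) := by
  classical
  obtain ⟨I, _, _, a, φ, ha, hφ⟩ := exists_coord U
  have hI : Fintype.card I = Module.finrank K U := by
    rw [φ.finrank_eq, Module.finrank_pi]
  set u : I → U := fun i => φ.symm (Pi.single i 1) with hu
  have hua : ∀ i j, (u i : B → K) (a j) = (Pi.single i 1 : I → K) j := by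
    intro i j
    rw [← hφ, hu]
    simp
  have hp0 : p ≠ 0 := (Fact.out : p.Prime).ne_zero
  have hfix : ∀ i b, (u i : B → K) b ^ p = (u i : B → K) b := by
    intro i
    have h1 : φ ⟨_, hfrob _ (u i).2⟩ = φ (u i) := by
      ext j
      rw [hφ, hφ]
      simp only [hua]
      by_cases h : j = i
      · subst h; simp
      · simp [h, hp0]
    have h2 := congrArg Subtype.val (φ.injective h1)
    intro b
    exact congrFun h2 b
  set J := {b : B // b ∉ Set.range a} with hJ
  let R : Matrix I J K := fun i b => (u i : B → K) b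
  have hsum : ∀ i j, (R * Rᵀ) i j = -(1 : Matrix I I K) i j := by
    intro i j
    have h1 := hiso _ (u i).2 _ (u j).2
    have h2 : ∑ b, (u i : B → K) b * (u j : B → K) b =
        ∑ k : I, (u i : B → K) (a k) * (u j : B → K) (a k) +
          ∑ b : J, (u i : B → K) b * (u j : B → K) b := by
      rw [← Fintype.sum_subtype_add_sum_subtype (fun b : B => b ∈ Set.range a)
        (fun b => (u i : B → K) b * (u j : B → K) b)]
      congr 1
      let ea : I ≃ {b : B // b ∈ Set.range a} := Equiv.ofInjective a ha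
      refine Eq.trans ?_ (Fintype.sum_equiv ea
        (fun k => (u i : B → K) (a k) * (u j : B → K) (a k))
        (fun b => (u i : B → K) b * (u j : B → K) b) (fun k => rfl)).symm
      congr 1
      exact congrArg (fun h => @Finset.univ _ h) (Subsingleton.elim _ _)
    rw [h2] at h1
    have h3 : ∑ k : I, (u i : B → K) (a k) * (u j : B → K) (a k) = (1 : Matrix I I K) i j := by
      simp only [hua, Pi.single_apply]
      simp [Matrix.one_apply, eq_comm]
    rw [h3] at h1
    rw [Matrix.mul_apply]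
    exact eq_neg_of_add_eq_zero_right h1
  have hRR : R * Rᵀ = -1 := by
    ext i j
    rw [hsum, Matrix.neg_apply]
  have hcard : Fintype.card B = Fintype.card I + Fintype.card J := by
    have h1 : Fintype.card I = Fintype.card {b : B // b ∈ Set.range a} :=
      Fintype.card_congr (Equiv.ofInjective a ha)
    have h2 : Fintype.card J = _ := Fintype.card_subtype_compl (fun b : B => b ∈ Set.range a)
    have h3 := Fintype.card_subtype_le (fun b : B => b ∈ Set.range a)
    omega
  have hle : Fintype.card I ≤ Fintype.card J := by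
    have h1 : (R * Rᵀ).rank = Fintype.card I := by
      rw [hRR]
      exact Matrix.rank_of_isUnit _ isUnit_one.neg
    have h2 := Matrix.rank_mul_le_left R Rᵀ
    have h3 := Matrix.rank_le_card_width R
    omega
  refine ⟨by omega, ?_⟩
  intro h3 hodd hB
  have hIe : Fintype.card I = e := by omega
  have hJe : Fintype.card J = Fintype.card I := by omega
  let σ : J ≃ I := Fintype.equivOfCardEq hJe
  let S : Matrix I I K := R.submatrix id σ.symm
  have hSS : S * Sᵀ = -1 := by
    have : S * Sᵀ = (R * Rᵀ) := by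
      show R.submatrix id σ.symm * (R.submatrix id σ.symm)ᵀ = _
      rw [Matrix.transpose_submatrix, Matrix.submatrix_mul_equiv]
      simp
    rw [this, hRR]
  have hd2 : S.det ^ 2 = -1 := by
    have := congrArg Matrix.det hSS
    rw [Matrix.det_mul, Matrix.det_transpose, Matrix.det_neg, Matrix.det_one, hIe,
      hodd.neg_one_pow] at this
    rw [sq, this]
    ring
  have hdp : S.det ^ p = S.det := by
    have h1 : (frobenius K p) S.det = ((frobenius K p).mapMatrix S).det := RingHom.map_det _ _
    have h2 : (frobenius K p).mapMatrix S = S := by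
      ext i j
      exact hfix i (σ.symm j)
    rw [h2] at h1
    exact h1
  obtain ⟨k, hk⟩ : ∃ k, p = 4 * k + 3 := ⟨p / 4, by omega⟩
  have h4 : S.det ^ p = -S.det := by
    rw [hk, pow_add, pow_mul]
    have : S.det ^ 4 = 1 := by
      calc S.det ^ 4 = (S.det ^ 2) ^ 2 := by ring
        _ = 1 := by rw [hd2]; ring
    rw [this, one_pow, one_mul]
    calc S.det ^ 3 = S.det ^ 2 * S.det := by ring
      _ = -S.det := by rw [hd2]; ring
  have h5 : S.det + S.det = 0 := by
    have := hdp.symm.trans h4
    rw [eq_neg_iff_add_eq_zero] at this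
    exact this
  have hne : S.det ≠ 0 := by
    intro h
    rw [h] at hd2
    simp at hd2
  have h2 : (2 : K) = 0 := by
    rw [← two_mul] at h5
    exact (mul_eq_zero.1 h5).resolve_right hne
  have h6 : ((2 : ℕ) : K) = 0 := by exact_mod_cast h2
  rw [CharP.cast_eq_zero_iff K p] at h6
  have := Nat.le_of_dvd (by norm_num) h6
  omega

end Cfsg.Agent.H25.IsoFrob
end
end

-- part: H634/OneP/Code_mg
section
prune_inst 0x4010000
set_option linter.all false
open scoped Cfsg.Agent.FastGrp

-- part: H648/OneP/SectionMod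
section
/-!
# B4 of S4880: second and third main theorem modulo the maximal ideal of `V`
-/

set_option autoImplicit false

open Cfsg IsLocalRing

namespace Cfsg.Agent.H648.OneP

open Cfsg.Agent.H634.OneP Cfsg.Agent.H657 Cfsg.Agent.Characters.Core Cfsg.Agent.Blocks Cfsg.Agent.Blocks.Basic
  Cfsg.Agent.Blocks.Local Cfsg.Agent.H686.K4

universe u

variable {G : Type u} [Group G] [Finite G] {p : ℕ} [hp : Fact p.Prime] {M : Ideal AlgInt}
  {V : ValuationSubring ℂ}

theorem mem_of_integral (hV : Above M V) {z : ℂ} (hz : IsIntegral ℤ z) : z ∈ V :=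
  hV.mem ⟨z, hz⟩

/-- a `p`-power root of unity reduces to `1` -/
theorem residue_eq_one (hM : IsPModular p M) (hV : Above M V) {k : ℕ} (c : V) (hc : (c : ℂ) ^ p ^ k = 1) :
    residue V c = 1 := by
  have hch := hV.charP hM
  have h1 : c ^ p ^ k = 1 := Subtype.ext (by push_cast; exact hc)
  have h2 : residue V c ^ p ^ k = 1 := by rw [← map_pow, h1, map_one]
  have := ExpChar.prime (R := ResidueField V) hp.out
  have h3 := (ExpChar.pow_prime_pow_mul_eq_one_iff p k 1 (residue V c)).1 (by rw [mul_one]; exact h2)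
  rwa [pow_one] at h3

/-- B4. Second and third main theorem modulo `V`. -/
theorem section_mod (hM : IsPModular p M) (hV : Above M V) {x : G} (hx : ∃ k : ℕ, orderOf x = p ^ k)
    (χ : IrrCharacter G) :
    ∃ m : IrrCharacter (Subgroup.centralizer ({x} : Set G)) → ℕ,
      (∀ c : Subgroup.centralizer ({x} : Set G), (χ : G → ℂ) c =
        ∑ᶠ ψ : IrrCharacter (Subgroup.centralizer ({x} : Set G)),
          (m ψ : ℂ) * (ψ : Subgroup.centralizer ({x} : Set G) → ℂ) c) ∧
      ∀ s : Subgroup.centralizer ({x} : Set G), ¬ p ∣ orderOf s →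
        (χ ∈ principalBlock M G →
          ∑ᶠ ψ ∈ principalBlock M (Subgroup.centralizer ({x} : Set G)),
            (m ψ : ResidueField V) * rd V (ψ : Subgroup.centralizer ({x} : Set G) → ℂ) s =
              rd V (χ : G → ℂ) s) ∧
        (χ ∉ principalBlock M G →
          ∑ᶠ ψ ∈ principalBlock M (Subgroup.centralizer ({x} : Set G)),
            (m ψ : ResidueField V) * rd V (ψ : Subgroup.centralizer ({x} : Set G) → ℂ) s = 0) := by
  classical
  have hMp := isPrime_of_isPModular hM
  have := Fintype.ofFinite G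
  set C := Subgroup.centralizer ({x} : Set G) with hC
  have := Fintype.ofFinite C
  have := finite_irr (G := C)
  have := Fintype.ofFinite (IrrCharacter C)
  have hxC : x ∈ C := Subgroup.mem_centralizer_singleton_iff.2 rfl
  have hz : (⟨x, hxC⟩ : C) ∈ Subgroup.center C := by
    rw [Subgroup.mem_center_iff]
    intro g
    exact Subtype.ext (Subgroup.mem_centralizer_singleton_iff.1 g.2)
  have hsum := fun (y : C) (hy : ¬ p ∣ orderOf y) => CentralizerSum.sum_components hM x hx hC
    PrincipalSection.isPBlock_principalBlock (A := principalBlock M C)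
    (PrincipalSection.mem_principalBlock_iff_induced hM x hx hC) y hy χ
  have hchar : IsCharacter C (fun c : C => (χ : G → ℂ) (c : G)) :=
    isCharacter_comp C.subtype (isIrr_isCharacter χ.2)
  obtain ⟨m, hm⟩ := isCharacter_iff.1 hchar
  have hm' : ∀ c : C, (χ : G → ℂ) (c : G) = ∑ ψ : IrrCharacter C, (m ψ : ℂ) * (ψ : C → ℂ) c := by
    intro c
    have := congrFun hm c
    rw [Finset.sum_apply] at this
    rw [this]
    exact Finset.sum_congr rfl fun ψ _ => by rw [Pi.smul_apply, nsmul_eq_mul]
  choose c hc1 hc2 using fun ξ : IrrCharacter C => exists_scalar_integral ξ.2 hz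
  -- the coefficients of the translate
  have hcoef : ∀ ψ : IrrCharacter C,
      classInner (fun c : C => (χ : G → ℂ) (x * (c : G))) (ψ : C → ℂ) = (m ψ : ℂ) * c ψ := by
    intro ψ
    have h1 : (fun g : C => (χ : G → ℂ) (x * (g : G))) =
        ∑ ξ : IrrCharacter C, ((m ξ : ℂ) * c ξ) • (ξ : C → ℂ) := by
      funext g
      have h2 := hm' (⟨x, hxC⟩ * g)
      rw [Subgroup.coe_mul] at h2
      change (χ : G → ℂ) (x * (g : G)) = _
      rw [h2, Finset.sum_apply]
      refine Finset.sum_congr rfl fun ξ _ => ?_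
      rw [Pi.smul_apply, hc2, smul_eq_mul, mul_assoc]
    rw [h1, classInner_sum_smul_irr]
  -- the scalars reduce to `1`
  obtain ⟨k, hk⟩ := hx
  have hcpow : ∀ ψ : IrrCharacter C, c ψ ^ p ^ k = 1 := by
    intro ψ
    have h1 : ∀ n : ℕ, (ψ : C → ℂ) ((⟨x, hxC⟩ : C) ^ n) = c ψ ^ n * (ψ : C → ℂ) 1 := by
      intro n
      induction n with
      | zero => simp
      | succ n ih => rw [pow_succ', hc2, ih, pow_succ']; ring
    have h2 : (⟨x, hxC⟩ : C) ^ p ^ k = 1 := by
      apply Subtype.ext
      rw [Subgroup.coe_pow, Subgroup.coe_one, ← hk]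
      exact pow_orderOf_eq_one x
    have h3 := h1 (p ^ k)
    rw [h2] at h3
    have h4 := isIrr_apply_one_ne_zero ψ.2
    exact mul_right_cancel₀ h4 (by rw [← h3, one_mul])
  have hcV : ∀ ψ : IrrCharacter C, c ψ ∈ V := fun ψ => mem_of_integral hV (hc1 ψ)
  have hcr : ∀ ψ : IrrCharacter C, residue V ⟨c ψ, hcV ψ⟩ = 1 := fun ψ =>
    residue_eq_one hM hV ⟨c ψ, hcV ψ⟩ (hcpow ψ)
  have hψV : ∀ (ψ : IrrCharacter C) (s : C), (ψ : C → ℂ) s ∈ V := fun ψ s =>
    mem_of_integral hV (Blocks.Central.isIntegral_irr ψ.2 s)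
  have hχV : ∀ g : G, (χ : G → ℂ) g ∈ V := fun g => mem_of_integral hV (Blocks.Central.isIntegral_irr χ.2 g)
  have hfs : ∀ f : IrrCharacter C → ResidueField V, ∑ᶠ ψ ∈ principalBlock M C, f ψ =
      ∑ ψ with ψ ∈ principalBlock M C, f ψ := by
    intro f
    rw [finsum_mem_def, finsum_eq_sum_of_fintype, Finset.sum_filter]
    exact Finset.sum_congr rfl fun ψ _ => Set.indicator_apply _ _ _
  refine ⟨m, fun s => by rw [finsum_eq_sum_of_fintype]; exact hm' s, fun s hs => ?_⟩
  have h1 := hsum s hs
  have hred : residue V (∑ ψ with ψ ∈ principalBlock M C, (m ψ : V) * ⟨c ψ, hcV ψ⟩ * ⟨(ψ : C → ℂ) s, hψV ψ s⟩) =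
      ∑ᶠ ψ ∈ principalBlock M C, (m ψ : ResidueField V) * rd V (ψ : C → ℂ) s := by
    rw [hfs, map_sum]
    refine Finset.sum_congr rfl fun ψ _ => ?_
    rw [map_mul, map_mul, hcr, mul_one, map_natCast, rd_of (hψV ψ s)]
  have hval : ((∑ ψ with ψ ∈ principalBlock M C, (m ψ : V) * ⟨c ψ, hcV ψ⟩ * ⟨(ψ : C → ℂ) s, hψV ψ s⟩ : V) : ℂ) =
      if χ ∈ principalBlock M G then (χ : G → ℂ) (x * (s : G)) else 0 := by
    rw [← h1]
    push_cast
    exact Finset.sum_congr rfl fun ψ _ => by rw [hcoef]
  -- the values at `x s` and `s` agree modulo `V`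
  have htrans : residue V ⟨(χ : G → ℂ) (x * (s : G)), hχV _⟩ = residue V ⟨(χ : G → ℂ) (s : G), hχV _⟩ := by
    have e1 : (⟨(χ : G → ℂ) (x * (s : G)), hχV _⟩ : V) =
        ∑ ψ : IrrCharacter C, (m ψ : V) * ⟨c ψ, hcV ψ⟩ * ⟨(ψ : C → ℂ) s, hψV ψ s⟩ := by
      apply Subtype.ext
      push_cast
      have h2 := hm' (⟨x, hxC⟩ * s)
      rw [Subgroup.coe_mul] at h2
      rw [h2]
      exact Finset.sum_congr rfl fun ξ _ => by rw [hc2, mul_assoc]
    have e2 : (⟨(χ : G → ℂ) (s : G), hχV _⟩ : V) =
        ∑ ψ : IrrCharacter C, (m ψ : V) * ⟨(ψ : C → ℂ) s, hψV ψ s⟩ := by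
      apply Subtype.ext
      push_cast
      exact hm' s
    rw [e1, e2, map_sum, map_sum]
    refine Finset.sum_congr rfl fun ψ _ => ?_
    rw [map_mul, map_mul, map_mul, hcr, mul_one]
  constructor
  · intro hχ
    rw [if_pos hχ] at hval
    rw [← hred, rd_of (hχV s), ← htrans]
    congr 1
    exact Subtype.ext hval
  · intro hχ
    rw [if_neg hχ] at hval
    rw [← hred]
    have : (∑ ψ with ψ ∈ principalBlock M C, (m ψ : V) * ⟨c ψ, hcV ψ⟩ * ⟨(ψ : C → ℂ) s, hψV ψ s⟩ : V) = 0 :=
      Subtype.ext hval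
    rw [this, map_zero]

end Cfsg.Agent.H648.OneP
end

-- part: H973/RankMod/Indep
section
/-!
# Linear relations modulo `V` respect the blocks (S4880, piece B3)
-/

set_option autoImplicit false

namespace Cfsg.Agent.H973.RankMod

open Cfsg IsLocalRing Module Cfsg.Agent.H657 Cfsg.Agent.H634.OneP Cfsg.Agent.H608.BlockRank

universe u

variable {G : Type u} [Group G] [Finite G] {p : ℕ} {M : Ideal AlgInt} {V : ValuationSubring ℂ}

/-- Linear relations modulo `V` respect unions of blocks. -/
theorem union_indep (hM : IsPModular p M) (hV : Above M V) (b : IrrCharacter G → ResidueField V)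
    (h : ∀ s : G, ¬ p ∣ orderOf s → ∑ᶠ χ : IrrCharacter G, b χ * rd V (χ : G → ℂ) s = 0)
    {B : Set (IrrCharacter G)} (hB : IsUnion M B) :
    ∀ s : G, ¬ p ∣ orderOf s → ∑ᶠ χ ∈ B, b χ * rd V (χ : G → ℂ) s = 0 := by
  classical
  have := Characters.Core.finite_irr (G := G)
  have := Fintype.ofFinite (IrrCharacter G)
  set F : IrrCharacter G → ({s : G // ¬ p ∣ orderOf s} → ResidueField V) :=
    fun χ => res p (rd V (χ : G → ℂ)) with hF
  set u := ∑ χ with χ ∈ B, b χ • F χ with hu
  set v := ∑ χ with χ ∉ B, b χ • F χ with hv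
  have h2 : u + v = 0 := by
    rw [hu, hv, Finset.sum_filter_add_sum_filter_not]
    funext s
    rw [Finset.sum_apply, Pi.zero_apply, ← h s s.2, finsum_eq_sum_of_fintype]
    rfl
  have hu1 : u ∈ Submodule.span (ResidueField V) (F '' B) :=
    Submodule.sum_mem _ fun χ hχ => Submodule.smul_mem _ _
      (Submodule.subset_span ⟨χ, (Finset.mem_filter.1 hχ).2, rfl⟩)
  have hv1 : v ∈ Submodule.span (ResidueField V) (F '' Bᶜ) :=
    Submodule.sum_mem _ fun χ hχ => Submodule.smul_mem _ _
      (Submodule.subset_span ⟨χ, (Finset.mem_filter.1 hχ).2, rfl⟩)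
  have hu' := span_rd_le hM hV B hu1
  have hv' := span_rd_le hM hV Bᶜ hv1
  have hdisj : Disjoint (ibrUnder V B) (ibrUnder V Bᶜ) := by
    rw [Set.disjoint_left]
    rintro j ⟨χ₁, hχ₁, h1⟩ ⟨χ₂, hχ₂, h2⟩
    exact hχ₂ (hB χ₁ χ₂ (under_sameBlock hM hV χ₁.2 χ₂.2 h1 h2) hχ₁)
  have hd := (linearIndependent_res (G := G) hM hV).disjoint_span_image hdisj
  rw [Submodule.disjoint_def] at hd
  have h3 : u = -v := eq_neg_of_add_eq_zero_left h2
  have h4 := hd u hu' (by rw [h3]; exact Submodule.neg_mem _ hv')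
  intro s hs
  have h5 := congrFun h4 ⟨s, hs⟩
  rw [hu, Finset.sum_apply, Pi.zero_apply] at h5
  rw [finsum_mem_eq_finite_toFinset_sum _ (Set.toFinite B), ← h5]
  refine Finset.sum_congr ?_ fun χ _ => rfl
  ext χ
  simp only [_root_.Set.toFinite_toFinset, _root_.Set.mem_toFinset, _root_.Finset.mem_filter, _root_.Finset.mem_univ, _root_.true_and]

/-- **B3.** Linear relations modulo `V` respect the blocks. -/
theorem block_indep (hM : IsPModular p M) (hV : Above M V) (b : IrrCharacter G → ResidueField V)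
    (h : ∀ s : G, ¬ p ∣ orderOf s → ∑ᶠ χ : IrrCharacter G, b χ * rd V (χ : G → ℂ) s = 0)
    {B : Set (IrrCharacter G)} (hB : IsPBlock M B) :
    ∀ s : G, ¬ p ∣ orderOf s → ∑ᶠ χ ∈ B, b χ * rd V (χ : G → ℂ) s = 0 := by
  have := Blocks.Local.isPrime_of_isPModular hM
  exact union_indep hM hV b h (isUnion_of_isPBlock hB)

end Cfsg.Agent.H973.RankMod
end

-- part: H352/OneP/Ortho
section
/-!
# S4880, B9: block orthogonality and Frobenius modulo `V` (helper352, task 3639)
-/

set_option autoImplicit false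

open Cfsg IsLocalRing ComplexConjugate

namespace Cfsg.Agent.H352.OneP

open Cfsg.Agent.H634.OneP Cfsg.Agent.H657

universe u

variable {G : Type u} [Group G] [Finite G] {p : ℕ} [hp : Fact p.Prime] {M : Ideal AlgInt}
  {V : ValuationSubring ℂ}

theorem exists_lift (hV : Above M V) (χ : IrrCharacter G) (g : G) :
    ∃ (d : ℕ) (μ : Fin d → V), ∀ k : ℕ, (χ : G → ℂ) (g ^ k) = ((∑ i, μ i ^ k : V) : ℂ) := by
  obtain ⟨d, μ, -, h1, h2⟩ := Cfsg.Agent.Characters.GaloisBasic.isCharacter_exists_fin_pow
    (Characters.Core.isIrr_isCharacter χ.2) g (n := orderOf g) (orderOf_pos g).ne' (pow_orderOf_eq_one g)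
  have h3 : ∀ i, μ i ∈ V := by
    intro i
    have h4 : IsIntegral ℤ (μ i) := by
      refine IsIntegral.of_pow (orderOf_pos g) ?_
      rw [h1]
      exact isIntegral_one
    exact hV.mem ⟨μ i, h4⟩
  refine ⟨d, fun i => ⟨μ i, h3 i⟩, fun k => ?_⟩
  rw [h2 k]
  push_cast
  rfl

omit [Group G] [Finite G] in
theorem rd_eq {θ : G → ℂ} {g : G} {v : V} (h : θ g = v) : rd V θ g = residue V v := by
  rw [rd_of (h ▸ v.2 : θ g ∈ V)]
  congr 1
  exact Subtype.ext h

theorem frob_mod (hM : IsPModular p M) (hV : Above M V) (χ : IrrCharacter G) (g : G) :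
    rd V (χ : G → ℂ) g ^ p = rd V (χ : G → ℂ) (g ^ p) := by
  have : CharP (ResidueField V) p := hV.charP hM
  obtain ⟨d, μ, h⟩ := exists_lift hV χ g
  have h1 := h 1
  rw [pow_one] at h1
  rw [rd_eq h1, rd_eq (h p), ← map_pow]
  simp only [pow_one, map_sum, map_pow]
  rw [sum_pow_char]

theorem frob_iter (hM : IsPModular p M) (hV : Above M V) (χ : IrrCharacter G) (g : G) (k : ℕ) :
    rd V (χ : G → ℂ) g ^ p ^ k = rd V (χ : G → ℂ) (g ^ p ^ k) := by
  induction k with
  | zero => rw [pow_zero, pow_one, pow_one]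
  | succ k ih => rw [pow_succ, pow_mul, ih, frob_mod hM hV, ← pow_mul]

theorem rd_section (hM : IsPModular p M) (hV : Above M V) (χ : IrrCharacter G) {x y : G} (hxy : Commute x y)
    (hx : ∃ k : ℕ, orderOf x = p ^ k) : rd V (χ : G → ℂ) (x * y) = rd V (χ : G → ℂ) y := by
  have : CharP (ResidueField V) p := hV.charP hM
  obtain ⟨k, hk⟩ := hx
  have h1 : rd V (χ : G → ℂ) (x * y) ^ p ^ k = rd V (χ : G → ℂ) y ^ p ^ k := by
    rw [frob_iter hM hV, frob_iter hM hV, hxy.mul_pow, ← hk, pow_orderOf_eq_one, one_mul]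
  have : ExpChar (ResidueField V) p := ExpChar.prime hp.out
  exact iterateFrobenius_inj (ResidueField V) p k h1

/-- B9. Block orthogonality and Frobenius modulo `V`. -/
theorem ortho_mod (hM : IsPModular p M) (hV : Above M V) {x : G} (hx : ∃ k : ℕ, orderOf x = p ^ k)
    (hx1 : x ≠ 1) (s s' : Subgroup.centralizer ({x} : Set G)) (hs : ¬ p ∣ orderOf s)
    (hs' : ¬ p ∣ orderOf s') :
    ∑ᶠ χ ∈ principalBlock M G, rd V (χ : G → ℂ) s * rd V (χ : G → ℂ) s' = 0 := by
  classical
  have : Finite (IrrCharacter G) := Characters.Core.finite_irr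
  have := Fintype.ofFinite (IrrCharacter G)
  have hc : Commute x (s : G) := (Subgroup.mem_centralizer_singleton_iff.1 s.2).symm
  have h1 : p ∣ orderOf (x * s)⁻¹ := by
    rw [orderOf_inv]
    obtain ⟨k, hk⟩ := hx
    have hk0 : k ≠ 0 := by
      rintro rfl
      exact hx1 (orderOf_eq_one_iff.1 (by rw [hk, pow_zero]))
    have hcop : Nat.Coprime (orderOf x) (orderOf (s : G)) := by
      rw [hk, Subgroup.orderOf_coe]
      exact Nat.Coprime.pow_left _ ((Nat.Prime.coprime_iff_not_dvd hp.out).2 hs)
    rw [hc.orderOf_mul_eq_mul_orderOf_of_coprime hcop, hk]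
    exact (dvd_pow_self p hk0).mul_right _
  have h2 := Cfsg.Agent.S0907.result p M hM (principalBlock M G) Blocks.PrincipalSection.isPBlock_principalBlock (s' : G)
    (x * s)⁻¹ (by rwa [Subgroup.orderOf_coe]) h1
  have ha : ∀ (χ : IrrCharacter G) (g : G), ∃ v : V, (χ : G → ℂ) g = v := by
    intro χ g
    obtain ⟨d, μ, h⟩ := exists_lift hV χ g
    exact ⟨_, by rw [← h 1, pow_one]⟩
  choose a ha using ha
  have h3 : ∀ χ : IrrCharacter G, (χ : G → ℂ) s' * conj ((χ : G → ℂ) (x * s)⁻¹) =
      ((a χ s' * a χ (x * s) : V) : ℂ) := by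
    intro χ
    rw [Characters.Core.isCharacter_apply_inv (Characters.Core.isIrr_isCharacter χ.2), Complex.conj_conj, ha, ha]
    rfl
  simp only [h3] at h2
  rw [finsum_mem_eq_toFinset_sum] at h2 ⊢
  have h4 : (∑ χ ∈ (principalBlock M G).toFinset, a χ s' * a χ (x * s) : V) = 0 := by
    apply Subtype.ext
    push_cast
    push_cast at h2
    exact h2
  have h5 := congrArg (residue V) h4
  rw [map_sum, map_zero] at h5
  rw [← h5]
  refine Finset.sum_congr rfl fun χ _ => ?_
  rw [map_mul, ← rd_eq (ha χ s'), ← rd_eq (ha χ (x * s)), rd_section hM hV χ hc hx, mul_comm]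

end Cfsg.Agent.H352.OneP
end

-- part: H963/OneP/Coeff
section
/-!
# S4880, block half, pieces B2 and B3 (helper963)

* `exists_coeff` : the reductions of the irreducible characters span the class functions on `p`-regular elements;
* `block_indep` : linear relations modulo `V` respect the blocks.
-/

set_option autoImplicit false

open Cfsg IsLocalRing

namespace Cfsg.Agent.H963.OneP

open Cfsg.Agent.H634.OneP Cfsg.Agent.H657 Cfsg.Agent.Characters.Core
open scoped ComplexConjugate

universe u

variable {G : Type u} [Group G] [Finite G] {p : ℕ} [hp : Fact p.Prime] {M : Ideal AlgInt}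
  {V : ValuationSubring ℂ}

omit [Finite G] hp in
theorem mem_of_integral (hV : Above M V) {z : ℂ} (hz : IsIntegral ℤ z) : z ∈ V := hV.mem ⟨z, hz⟩

theorem char_mem (hV : Above M V) (χ : IrrCharacter G) (g : G) : (χ : G → ℂ) g ∈ V :=
  mem_of_integral hV (Blocks.Central.isIntegral_irr χ.2 g)

omit [Finite G] in
/-- an element `y q ≠ y`, `y` `p`-regular, `q` a `p`-element commuting with `y`, is `p`-singular -/
theorem singular {s q : G} (hc : Commute s q) (hs : ¬ p ∣ orderOf s) {k : ℕ} (hq : q ^ p ^ k = 1) (hq1 : q ≠ 1) :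
    p ∣ orderOf (s * q) :=
  Blocks.AvgIntegral.dvd_orderOf_mul hp.out hc hs hq1 hq

/-- the characteristic function of a `p`-regular class, modulo `V` -/
theorem class_coeff [Fintype (IrrCharacter G)] (hM : IsPModular p M) (hV : Above M V) {s : G}
    (hs : ¬ p ∣ orderOf s) :
    ∃ (c : IrrCharacter G → ResidueField V) (n : ResidueField V), n ≠ 0 ∧ ∀ g : G, ¬ p ∣ orderOf g →
      (IsConj g s → ∑ χ, c χ * rd V (χ : G → ℂ) g = n) ∧ (¬ IsConj g s → ∑ χ, c χ * rd V (χ : G → ℂ) g = 0) := by
  classical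
  have := hV.charP hM
  have := Fintype.ofFinite G
  -- the Sylow subgroup of the centralizer
  obtain ⟨P⟩ : Nonempty (Sylow p (Subgroup.centralizer ({s} : Set G))) := inferInstance
  set Q : Subgroup G := (P : Subgroup (Subgroup.centralizer ({s} : Set G))).map
    (Subgroup.centralizer ({s} : Set G)).subtype with hQ
  have := Fintype.ofFinite Q
  have hQc : ∀ q ∈ Q, Commute s q := by
    rintro _ ⟨q, -, rfl⟩
    exact (Subgroup.mem_centralizer_singleton_iff.1 q.2).symm
  have hQp : ∀ q ∈ Q, ∃ k : ℕ, q ^ p ^ k = 1 := by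
    rintro _ ⟨q, hq, rfl⟩
    obtain ⟨k, hk⟩ := P.isPGroup' ⟨q, hq⟩
    refine ⟨k, ?_⟩
    have h1 := congrArg (fun t : (P : Subgroup (Subgroup.centralizer ({s} : Set G))) => ((t : _) : G)) hk
    simpa only [_root_.Subgroup.subtype_apply, _root_.SubmonoidClass.mk_pow, _root_.SubmonoidClass.coe_pow, _root_.OneMemClass.coe_one] using h1
  have hcard : Nat.card Q = Nat.card P :=
    (Nat.card_congr ((P : Subgroup (Subgroup.centralizer ({s} : Set G))).equivMapOfInjective _
      (Subgroup.subtype_injective _)).toEquiv).symm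
  have hQ0 : (Nat.card Q : ℂ) ≠ 0 := by exact_mod_cast Nat.card_pos.ne'
  obtain ⟨m, hm⟩ : ∃ m, Nat.card (Subgroup.centralizer ({s} : Set G)) = Nat.card Q * m := by
    rw [hcard]
    exact Subgroup.card_subgroup_dvd_card _
  have hmp : ¬ p ∣ m := by
    intro h
    apply P.not_dvd_index
    have h1 := (P : Subgroup (Subgroup.centralizer ({s} : Set G))).card_mul_index
    rw [hm, hcard] at h1
    rw [Nat.eq_of_mul_eq_mul_left Nat.card_pos h1]
    exact h
  -- the coefficients
  let c0 : IrrCharacter G → ℂ := fun χ => (Nat.card Q : ℂ)⁻¹ * ∑ q : Q, (χ : G → ℂ) (s⁻¹ * q)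
  have hc0 : ∀ χ, c0 χ ∈ V := fun χ => mem_of_integral hV
    (Blocks.AvgIntegral.isIntegral_avg (isIrr_isCharacter χ.2) Q s⁻¹ fun q hq => (hQc q hq).inv_left)
  -- orthogonality
  have horth : ∀ g : G, ¬ p ∣ orderOf g →
      ∑ χ, c0 χ * (χ : G → ℂ) g = if IsConj g s then (m : ℂ) else 0 := by
    intro g hg
    have h1 : ∑ χ, c0 χ * (χ : G → ℂ) g =
        (Nat.card Q : ℂ)⁻¹ * ∑ q : Q, (Nat.card {a : G // a * g * a⁻¹ = (q : G)⁻¹ * s} : ℂ) := by
      simp only [c0]
      have h2 : ∀ q : Q, (Nat.card {a : G // a * g * a⁻¹ = (q : G)⁻¹ * s} : ℂ) =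
          ∑ χ : IrrCharacter G, (χ : G → ℂ) g * (χ : G → ℂ) (s⁻¹ * q) := by
        intro q
        rw [S0848.column_orth]
        refine Finset.sum_congr rfl fun χ _ => ?_
        rw [← isCharacter_apply_inv (isIrr_isCharacter χ.2)]
        congr 2
        group
      rw [Finset.sum_congr rfl fun q _ => h2 q, Finset.sum_comm, Finset.mul_sum]
      refine Finset.sum_congr rfl fun χ _ => ?_
      rw [← Finset.mul_sum]
      ring
    rw [h1, Finset.sum_eq_single (1 : Q)]
    · by_cases hgs : IsConj g s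
      · rw [if_pos hgs]
        obtain ⟨b, hb⟩ := isConj_iff.1 hgs
        have h3 : Nat.card {a : G // a * g * a⁻¹ = ((1 : Q) : G)⁻¹ * s} =
            Nat.card (Subgroup.centralizer ({s} : Set G)) := by
          refine Nat.card_congr
            { toFun := fun a => ⟨a.1 * b⁻¹, ?_⟩
              invFun := fun t => ⟨t.1 * b, ?_⟩
              left_inv := fun a => Subtype.ext (by simp only [_root_.OneMemClass.coe_one, _root_.inv_mul_cancel_right])
              right_inv := fun t => Subtype.ext (by simp) }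
          · have h4 : a.1 * g * a.1⁻¹ = s := by simpa only [_root_.OneMemClass.coe_one, _root_.inv_one, _root_.one_mul] using a.2
            rw [Subgroup.mem_centralizer_singleton_iff]
            have h5 : b⁻¹ * s * b = g := by rw [← hb]; group
            calc a.1 * b⁻¹ * s = (a.1 * (b⁻¹ * s * b) * a.1⁻¹) * (a.1 * b⁻¹) := by group
              _ = s * (a.1 * b⁻¹) := by rw [h5, h4]
          · have h4 := Subgroup.mem_centralizer_singleton_iff.1 t.2
            rw [Subgroup.coe_one, inv_one, one_mul]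
            calc t.1 * b * g * (t.1 * b)⁻¹ = t.1 * (b * g * b⁻¹) * t.1⁻¹ := by group
              _ = s := by rw [hb, h4]; group
        rw [h3, hm]
        push_cast
        rw [← mul_assoc, inv_mul_cancel₀ hQ0, one_mul]
      · rw [if_neg hgs]
        have h3 : IsEmpty {a : G // a * g * a⁻¹ = ((1 : Q) : G)⁻¹ * s} := by
          exact ⟨fun a => hgs (isConj_iff.2 ⟨a.1, by simpa only [_root_.OneMemClass.coe_one, _root_.inv_one, _root_.one_mul] using a.2⟩)⟩
        rw [Nat.card_eq_zero.2 (Or.inl h3), Nat.cast_zero, mul_zero]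
    · intro q _ hq1
      have h3 : IsEmpty {a : G // a * g * a⁻¹ = (q : G)⁻¹ * s} := by
        refine ⟨fun a => hg ?_⟩
        have h4 : orderOf g = orderOf (a.1 * g * a.1⁻¹) := ((MulAut.conj a.1).orderOf_eq g).symm
        obtain ⟨k, hk⟩ := hQp q q.2
        have hc : Commute s (q : G)⁻¹ := (hQc q q.2).inv_right
        rw [h4, a.2, ← hc.eq]
        refine singular hc hs (k := k) (by rw [inv_pow, hk, inv_one]) ?_
        intro h5
        exact hq1 (Subtype.ext (inv_eq_one.1 h5))
      rw [Nat.card_eq_zero.2 (Or.inl h3), Nat.cast_zero]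
    · intro h
      exact absurd (Finset.mem_univ _) h
  refine ⟨fun χ => residue V ⟨c0 χ, hc0 χ⟩, (m : ResidueField V), ?_, fun g hg => ?_⟩
  · rw [Ne, CharP.cast_eq_zero_iff (ResidueField V) p]
    exact hmp
  · have h1 : ∑ χ : IrrCharacter G, residue V ⟨c0 χ, hc0 χ⟩ * rd V (χ : G → ℂ) g =
        residue V (∑ χ : IrrCharacter G, (⟨c0 χ, hc0 χ⟩ : V) * ⟨(χ : G → ℂ) g, char_mem hV χ g⟩) := by
      rw [map_sum]
      refine Finset.sum_congr rfl fun χ _ => ?_
      rw [map_mul, rd_of (char_mem hV χ g)]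
    have h2 : ((∑ χ : IrrCharacter G, (⟨c0 χ, hc0 χ⟩ : V) * ⟨(χ : G → ℂ) g, char_mem hV χ g⟩ : V) : ℂ) =
        if IsConj g s then (m : ℂ) else 0 := by
      rw [← horth g hg]
      push_cast
      rfl
    rw [h1]
    refine ⟨fun hgs => ?_, fun hgs => ?_⟩
    · rw [if_pos hgs] at h2
      have h3 : (∑ χ : IrrCharacter G, (⟨c0 χ, hc0 χ⟩ : V) * ⟨(χ : G → ℂ) g, char_mem hV χ g⟩ : V) = (m : V) :=
        Subtype.ext (by rw [h2]; push_cast; rfl)
      rw [h3, map_natCast]
    · rw [if_neg hgs] at h2
      have h3 : (∑ χ : IrrCharacter G, (⟨c0 χ, hc0 χ⟩ : V) * ⟨(χ : G → ℂ) g, char_mem hV χ g⟩ : V) = 0 :=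
        Subtype.ext (by rw [h2]; push_cast; rfl)
      rw [h3, map_zero]

/-- **B2.** The reductions of the irreducible characters span the class functions on `p`-regular elements. -/
theorem exists_coeff (hM : IsPModular p M) (hV : Above M V) (f : G → ResidueField V)
    (hf : ∀ g h : G, f (h * g * h⁻¹) = f g) :
    ∃ a : IrrCharacter G → ResidueField V, ∀ g : G, ¬ p ∣ orderOf g →
      f g = ∑ᶠ χ : IrrCharacter G, a χ * rd V (χ : G → ℂ) g := by
  classical
  have := Characters.Core.finite_irr (G := G)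
  have := Fintype.ofFinite (IrrCharacter G)
  have := Fintype.ofFinite G
  have := Fintype.ofFinite (ConjClasses G)
  -- representatives
  let rep : ConjClasses G → G := fun C => Quotient.out C
  have hrep : ∀ C, ConjClasses.mk (rep C) = C := fun C => Quotient.out_eq C
  have key : ∀ C : ConjClasses G, ∃ (c : IrrCharacter G → ResidueField V) (n : ResidueField V), n ≠ 0 ∧
      (¬ p ∣ orderOf (rep C) → ∀ g : G, ¬ p ∣ orderOf g →
        (IsConj g (rep C) → ∑ χ, c χ * rd V (χ : G → ℂ) g = n) ∧
        (¬ IsConj g (rep C) → ∑ χ, c χ * rd V (χ : G → ℂ) g = 0)) := by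
    intro C
    by_cases h : p ∣ orderOf (rep C)
    · exact ⟨0, 1, one_ne_zero, fun h1 => absurd h h1⟩
    · obtain ⟨c, n, h1, h2⟩ := class_coeff hM hV h
      exact ⟨c, n, h1, fun _ => h2⟩
  choose c n hn hc using key
  refine ⟨fun χ => ∑ C : ConjClasses G, if p ∣ orderOf (rep C) then 0 else f (rep C) / n C * c C χ, fun g hg => ?_⟩
  rw [finsum_eq_sum_of_fintype]
  have h1 : ∑ χ : IrrCharacter G, (∑ C : ConjClasses G, if p ∣ orderOf (rep C) then 0 else
      f (rep C) / n C * c C χ) * rd V (χ : G → ℂ) g =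
      ∑ C : ConjClasses G, if p ∣ orderOf (rep C) then 0 else
        f (rep C) / n C * ∑ χ, c C χ * rd V (χ : G → ℂ) g := by
    simp only [Finset.sum_mul]
    rw [Finset.sum_comm]
    refine Finset.sum_congr rfl fun C _ => ?_
    split_ifs with h
    · simp only [_root_.MulZeroClass.zero_mul, _root_.Finset.sum_const_zero]
    · rw [Finset.mul_sum]
      refine Finset.sum_congr rfl fun χ _ => ?_
      ring
  rw [h1, Finset.sum_eq_single (ConjClasses.mk g)]
  · have h2 : IsConj g (rep (ConjClasses.mk g)) := ConjClasses.mk_eq_mk_iff_isConj.1 (hrep _).symm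
    obtain ⟨b, hb⟩ := isConj_iff.1 h2
    have h3 : ¬ p ∣ orderOf (rep (ConjClasses.mk g)) := by
      rw [← hb]
      have h4 : orderOf (b * g * b⁻¹) = orderOf g := (MulAut.conj b).orderOf_eq g
      rwa [h4]
    rw [if_neg h3, ((hc _ h3) g hg).1 h2, div_mul_cancel₀ _ (hn _), ← hb, hf]
  · intro C _ hC
    split_ifs with h
    · rfl
    · rw [((hc _ h) g hg).2 fun h2 => hC ?_, mul_zero]
      rw [← hrep C]
      exact (ConjClasses.mk_eq_mk_iff_isConj.2 h2).symm
  · intro h
    exact absurd (Finset.mem_univ _) h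

/-! ### B3 -/

section Indep

attribute [local instance] Above.isAlgClosed

open Cfsg.Agent.H608.BlockRank

end Indep

end Cfsg.Agent.H963.OneP
end

-- part: H973/RankMod/Main
section
/-!
# The rank modulo `V` of the principal block (S4880, piece B5)
-/

set_option autoImplicit false

namespace Cfsg.Agent.H973.RankMod

open Cfsg IsLocalRing Cfsg.Agent.H657 Cfsg.Agent.H634.OneP

universe u

variable {G : Type u} [Group G] [Finite G] {p : ℕ} [hp : Fact p.Prime] {M : Ideal AlgInt}
  {V : ValuationSubring ℂ}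

/-- **B5.** The rank modulo `V` of the principal block is at least `blockRank`. -/
theorem rank_mod (hM : IsPModular p M) (hV : Above M V) :
    blockRank p (principalBlock M G) ≤ Module.finrank (ResidueField V)
      (Submodule.span (ResidueField V)
        ((fun χ : IrrCharacter G => fun s : {s : G // ¬ p ∣ orderOf s} => rd V (χ : G → ℂ) s) ''
          (principalBlock M G))) :=
  rank_mod_prin hM hV (Cfsg.Agent.H963.OneP.exists_coeff hM hV)

end Cfsg.Agent.H973.RankMod
end

-- part: H634/OneP/Code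
section
/-!
# S4880, block half: the self-orthogonal code of a `p`-section
-/

set_option autoImplicit false

open Cfsg IsLocalRing

namespace Cfsg.Agent.H634.OneP

open Cfsg.Agent.H657

universe u

/-- Sums over a block as sums over all characters. -/
theorem finsum_mem_ite {α K : Type*} [AddCommMonoid K] [Fintype α] (B : Set α) [DecidablePred (· ∈ B)]
    (F : α → K) : ∑ᶠ χ ∈ B, F χ = ∑ χ, if χ ∈ B then F χ else 0 := by
  rw [finsum_eq_sum_of_fintype]
  refine Finset.sum_congr rfl fun χ _ => ?_
  by_cases h : χ ∈ B <;> simp [h]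

variable {G : Type u} [Group G] [Finite G] {p : ℕ} [hp : Fact p.Prime] {M : Ideal AlgInt}
  {V : ValuationSubring ℂ}

theorem irr_mem (hV : Above M V) (χ : IrrCharacter G) (g : G) : (χ : G → ℂ) g ∈ V :=
  hV.mem ⟨(χ : G → ℂ) g, Blocks.Central.isIntegral_irr χ.2 g⟩

/-- **Lifting.** The reduction of a `G`-stable member of the principal block of `C_G(x)` is a combination of the
reductions of the principal block of `G`. -/
theorem exists_lift (hM : IsPModular p M) (hV : Above M V) {x : G} (hx : ∃ k : ℕ, orderOf x = p ^ k)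
    {ψ : IrrCharacter (Subgroup.centralizer ({x} : Set G))}
    (hψ : ψ ∈ principalBlock M (Subgroup.centralizer ({x} : Set G)))
    (hst : ∀ s s' : Subgroup.centralizer ({x} : Set G), ¬ p ∣ orderOf s → IsConj (s : G) (s' : G) →
      rd V (ψ : Subgroup.centralizer ({x} : Set G) → ℂ) s' =
        rd V (ψ : Subgroup.centralizer ({x} : Set G) → ℂ) s) :
    ∃ a : IrrCharacter G → ResidueField V, ∀ s : Subgroup.centralizer ({x} : Set G), ¬ p ∣ orderOf s →
      rd V (ψ : Subgroup.centralizer ({x} : Set G) → ℂ) s =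
        ∑ᶠ χ ∈ principalBlock M G, a χ * rd V (χ : G → ℂ) s := by
  classical
  have : Finite (IrrCharacter G) := Characters.Core.finite_irr
  have := Fintype.ofFinite (IrrCharacter G)
  have : Finite (IrrCharacter (Subgroup.centralizer ({x} : Set G))) := Characters.Core.finite_irr
  have := Fintype.ofFinite (IrrCharacter (Subgroup.centralizer ({x} : Set G)))
  -- the `G`-stable extension
  let f : G → ResidueField V := fun g =>
    if h : ∃ s : Subgroup.centralizer ({x} : Set G), ¬ p ∣ orderOf s ∧ IsConj (s : G) g then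
      rd V (ψ : Subgroup.centralizer ({x} : Set G) → ℂ) h.choose else 0
  have hf : ∀ g h : G, f (h * g * h⁻¹) = f g := by
    intro g h
    have hc : IsConj g (h * g * h⁻¹) := isConj_iff.2 ⟨h, rfl⟩
    by_cases h1 : ∃ s : Subgroup.centralizer ({x} : Set G), ¬ p ∣ orderOf s ∧ IsConj (s : G) g
    · have h2 : ∃ s : Subgroup.centralizer ({x} : Set G), ¬ p ∣ orderOf s ∧ IsConj (s : G) (h * g * h⁻¹) := by
        obtain ⟨s, hs, hsg⟩ := h1
        exact ⟨s, hs, hsg.trans hc⟩
      have e1 : f g = rd V (ψ : Subgroup.centralizer ({x} : Set G) → ℂ) h1.choose := dif_pos h1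
      have e2 : f (h * g * h⁻¹) = rd V (ψ : Subgroup.centralizer ({x} : Set G) → ℂ) h2.choose := dif_pos h2
      rw [e1, e2]
      exact hst _ _ h1.choose_spec.1 (h1.choose_spec.2.trans (hc.trans h2.choose_spec.2.symm))
    · have h2 : ¬ ∃ s : Subgroup.centralizer ({x} : Set G), ¬ p ∣ orderOf s ∧ IsConj (s : G) (h * g * h⁻¹) := by
        rintro ⟨s, hs, hsg⟩
        exact h1 ⟨s, hs, hsg.trans hc.symm⟩
      have e1 : f g = 0 := dif_neg h1
      have e2 : f (h * g * h⁻¹) = 0 := dif_neg h2
      rw [e1, e2]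
  have hfs : ∀ s : Subgroup.centralizer ({x} : Set G), ¬ p ∣ orderOf s →
      f s = rd V (ψ : Subgroup.centralizer ({x} : Set G) → ℂ) s := by
    intro s hs
    have h1 : ∃ s' : Subgroup.centralizer ({x} : Set G), ¬ p ∣ orderOf s' ∧ IsConj (s' : G) s :=
      ⟨s, hs, IsConj.refl _⟩
    have e1 : f s = rd V (ψ : Subgroup.centralizer ({x} : Set G) → ℂ) h1.choose := dif_pos h1
    rw [e1]
    exact hst _ _ hs h1.choose_spec.2.symm
  obtain ⟨a, ha⟩ := H963.OneP.exists_coeff hM hV f hf
  refine ⟨a, ?_⟩
  choose m hm1 hm2 using fun χ : IrrCharacter G => H648.OneP.section_mod hM hV hx χ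
  -- the reduction of the restriction
  have hres : ∀ (χ : IrrCharacter G) (s : Subgroup.centralizer ({x} : Set G)), rd V (χ : G → ℂ) s =
      ∑ ψ' : IrrCharacter (Subgroup.centralizer ({x} : Set G)), (m χ ψ' : ResidueField V) *
        rd V (ψ' : Subgroup.centralizer ({x} : Set G) → ℂ) s := by
    intro χ s
    have h1 := hm1 χ s
    rw [finsum_eq_sum_of_fintype] at h1
    have h2 : (χ : G → ℂ) s = ((∑ ψ' : IrrCharacter (Subgroup.centralizer ({x} : Set G)),
        (m χ ψ' : V) * ⟨(ψ' : Subgroup.centralizer ({x} : Set G) → ℂ) s, irr_mem hV ψ' s⟩ : V) : ℂ) := by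
      rw [h1]
      push_cast
      rfl
    rw [H352.OneP.rd_eq h2, map_sum]
    refine Finset.sum_congr rfl fun ψ' _ => ?_
    rw [map_mul, map_natCast, rd_of (irr_mem hV ψ' s)]
  let b : IrrCharacter (Subgroup.centralizer ({x} : Set G)) → ResidueField V := fun ψ' =>
    (∑ χ : IrrCharacter G, a χ * (m χ ψ' : ResidueField V)) - if ψ' = ψ then 1 else 0
  have hb : ∀ s : Subgroup.centralizer ({x} : Set G), ¬ p ∣ orderOf s →
      ∑ᶠ ψ' : IrrCharacter (Subgroup.centralizer ({x} : Set G)), b ψ' *
        rd V (ψ' : Subgroup.centralizer ({x} : Set G) → ℂ) s = 0 := by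
    intro s hs
    have hsG : ¬ p ∣ orderOf (s : G) := by rwa [Subgroup.orderOf_coe]
    have h1 := ha s hsG
    rw [hfs s hs, finsum_eq_sum_of_fintype] at h1
    rw [finsum_eq_sum_of_fintype]
    have h2 : ∑ ψ' : IrrCharacter (Subgroup.centralizer ({x} : Set G)), b ψ' *
        rd V (ψ' : Subgroup.centralizer ({x} : Set G) → ℂ) s =
        (∑ χ : IrrCharacter G, a χ * rd V (χ : G → ℂ) s) -
          rd V (ψ : Subgroup.centralizer ({x} : Set G) → ℂ) s := by
      simp only [b, sub_mul, Finset.sum_sub_distrib, ite_mul, one_mul, zero_mul, Finset.sum_ite_eq',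
        Finset.mem_univ, if_true]
      congr 1
      simp_rw [hres _ s, Finset.sum_mul, Finset.mul_sum]
      rw [Finset.sum_comm]
      refine Finset.sum_congr rfl fun χ _ => Finset.sum_congr rfl fun ψ' _ => ?_
      ring
    rw [h2, ← h1, sub_self]
  have hB := H973.RankMod.block_indep hM hV b hb Blocks.PrincipalSection.isPBlock_principalBlock
  intro s hs
  have h1 := hB s hs
  rw [finsum_mem_ite] at h1
  rw [finsum_mem_ite]
  have h2 : ∀ χ : IrrCharacter G, (∑ ψ' : IrrCharacter (Subgroup.centralizer ({x} : Set G)),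
      if ψ' ∈ principalBlock M (Subgroup.centralizer ({x} : Set G)) then (m χ ψ' : ResidueField V) *
        rd V (ψ' : Subgroup.centralizer ({x} : Set G) → ℂ) s else 0) =
      if χ ∈ principalBlock M G then rd V (χ : G → ℂ) s else 0 := by
    intro χ
    rw [← finsum_mem_ite]
    by_cases h : χ ∈ principalBlock M G
    · rw [if_pos h]
      exact (hm2 χ s hs).1 h
    · rw [if_neg h]
      exact (hm2 χ s hs).2 h
  have h3 : ∑ χ : IrrCharacter G, (if χ ∈ principalBlock M G then a χ * rd V (χ : G → ℂ) s else 0) =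
      ∑ χ : IrrCharacter G, a χ * (∑ ψ' : IrrCharacter (Subgroup.centralizer ({x} : Set G)),
        if ψ' ∈ principalBlock M (Subgroup.centralizer ({x} : Set G)) then (m χ ψ' : ResidueField V) *
          rd V (ψ' : Subgroup.centralizer ({x} : Set G) → ℂ) s else 0) := by
    refine Finset.sum_congr rfl fun χ _ => ?_
    rw [h2 χ]
    split_ifs <;> simp
  rw [h3]
  have h4 : ∑ ψ' : IrrCharacter (Subgroup.centralizer ({x} : Set G)),
      (if ψ' ∈ principalBlock M (Subgroup.centralizer ({x} : Set G)) then b ψ' *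
        rd V (ψ' : Subgroup.centralizer ({x} : Set G) → ℂ) s else 0) =
      (∑ χ : IrrCharacter G, a χ * (∑ ψ' : IrrCharacter (Subgroup.centralizer ({x} : Set G)),
        if ψ' ∈ principalBlock M (Subgroup.centralizer ({x} : Set G)) then (m χ ψ' : ResidueField V) *
          rd V (ψ' : Subgroup.centralizer ({x} : Set G) → ℂ) s else 0)) -
      rd V (ψ : Subgroup.centralizer ({x} : Set G) → ℂ) s := by
    have h5 : ∀ ψ' : IrrCharacter (Subgroup.centralizer ({x} : Set G)),
        (if ψ' ∈ principalBlock M (Subgroup.centralizer ({x} : Set G)) then b ψ' *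
          rd V (ψ' : Subgroup.centralizer ({x} : Set G) → ℂ) s else 0) =
        (∑ χ : IrrCharacter G, a χ * (if ψ' ∈ principalBlock M (Subgroup.centralizer ({x} : Set G)) then
          (m χ ψ' : ResidueField V) * rd V (ψ' : Subgroup.centralizer ({x} : Set G) → ℂ) s else 0)) -
        (if ψ' = ψ then rd V (ψ : Subgroup.centralizer ({x} : Set G) → ℂ) s else 0) := by
      intro ψ'
      by_cases h6 : ψ' ∈ principalBlock M (Subgroup.centralizer ({x} : Set G))
      · simp only [if_pos h6, b, sub_mul, Finset.sum_mul, ite_mul, one_mul, zero_mul]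
        congr 1
        · exact Finset.sum_congr rfl fun χ _ => by ring
        · by_cases h7 : ψ' = ψ
          · rw [if_pos h7, if_pos h7, h7]
          · rw [if_neg h7, if_neg h7]
      · have h7 : ψ' ≠ ψ := by
          rintro rfl
          exact h6 hψ
        simp only [if_neg h6, if_neg h7, _root_.MulZeroClass.mul_zero, _root_.Finset.sum_const_zero, _root_.sub_self]
    rw [Finset.sum_congr rfl fun ψ' _ => h5 ψ', Finset.sum_sub_distrib, Finset.sum_comm]
    simp only [Finset.sum_ite_eq', Finset.mem_univ, if_true, Finset.mul_sum]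
  rw [h4] at h1
  exact (sub_eq_zero.1 h1).symm

/-- **The code.** If every member of the principal block of `C_G(x)` has a `G`-stable reduction then the principal
block of `G` has at least `2 l` members, `l = l(B₀(C_G(x)))`, and not exactly `2 l` if `p = 3 mod 4` and `l` is odd. -/
theorem code (hM : IsPModular p M) (hV : Above M V) {x : G} (hx : ∃ k : ℕ, orderOf x = p ^ k) (hx1 : x ≠ 1)
    (hst : ∀ ψ ∈ principalBlock M (Subgroup.centralizer ({x} : Set G)),
      ∀ s s' : Subgroup.centralizer ({x} : Set G), ¬ p ∣ orderOf s → IsConj (s : G) (s' : G) →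
        rd V (ψ : Subgroup.centralizer ({x} : Set G) → ℂ) s' =
          rd V (ψ : Subgroup.centralizer ({x} : Set G) → ℂ) s) (e : ℕ)
    (he : e ≤ blockRank p (principalBlock M (Subgroup.centralizer ({x} : Set G)))) :
    2 * e ≤ Nat.card (principalBlock M G) ∧
      (p % 4 = 3 → Odd e → Nat.card (principalBlock M G) ≠ 2 * e) := by
  classical
  have : CharP (ResidueField V) p := hV.charP hM
  have : Finite (IrrCharacter G) := Characters.Core.finite_irr
  have := Fintype.ofFinite (IrrCharacter G)
  have := Fintype.ofFinite (principalBlock M G)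
  have := Fintype.ofFinite {s : Subgroup.centralizer ({x} : Set G) // ¬ p ∣ orderOf s}
  let A : Matrix {s : Subgroup.centralizer ({x} : Set G) // ¬ p ∣ orderOf s} (principalBlock M G)
    (ResidueField V) := fun s χ => rd V ((χ : IrrCharacter G) : G → ℂ) ((s : Subgroup.centralizer ({x} : Set G)) : G)
  have hsum : ∀ F : IrrCharacter G → ResidueField V,
      ∑ χ : principalBlock M G, F χ = ∑ᶠ χ ∈ principalBlock M G, F χ := by
    intro F
    rw [finsum_mem_eq_finite_toFinset_sum _ (Set.toFinite _)]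
    exact (Finset.sum_subtype _ (fun χ => Set.Finite.mem_toFinset _) _).symm
  have hcard : Fintype.card (principalBlock M G) = Nat.card (principalBlock M G) :=
    Nat.card_eq_fintype_card.symm
  rw [← hcard]
  refine H25.IsoFrob.isotropic (K := ResidueField V) (p := p) (Submodule.span (ResidueField V) (Set.range A.row))
    ?_ ?_ e ?_
  · -- isotropic
    intro v hv w hw
    induction hv using Submodule.span_induction with
    | mem v hv =>
      obtain ⟨s, rfl⟩ := hv
      induction hw using Submodule.span_induction with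
      | mem w hw =>
        obtain ⟨s', rfl⟩ := hw
        have h1 := H352.OneP.ortho_mod hM hV hx hx1 s.1 s'.1 s.2 s'.2
        rw [← hsum fun χ => rd V (χ : G → ℂ) ((s.1 : Subgroup.centralizer ({x} : Set G)) : G) *
          rd V (χ : G → ℂ) ((s'.1 : Subgroup.centralizer ({x} : Set G)) : G)] at h1
        exact h1
      | zero => simp only [_root_.Matrix.row_apply, _root_.Pi.zero_apply, _root_.MulZeroClass.mul_zero, _root_.Finset.sum_const_zero]
      | add w w' _ _ h h' =>
        simp only [Pi.add_apply, mul_add, Finset.sum_add_distrib, h, h', add_zero]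
      | smul c w _ h =>
        have : ∀ b, A.row s b * (c • w) b = c * (A.row s b * w b) := fun b => by
          rw [Pi.smul_apply, smul_eq_mul]; ring
        rw [Finset.sum_congr rfl fun b _ => this b, ← Finset.mul_sum, h, mul_zero]
    | zero => simp only [_root_.Pi.zero_apply, _root_.MulZeroClass.zero_mul, _root_.Finset.sum_const_zero]
    | add v v' _ _ h h' =>
      simp only [Pi.add_apply, add_mul, Finset.sum_add_distrib, h, h', add_zero]
    | smul c v _ h =>
      have : ∀ b, (c • v) b * w b = c * (v b * w b) := fun b => by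
        rw [Pi.smul_apply, smul_eq_mul]; ring
      rw [Finset.sum_congr rfl fun b _ => this b, ← Finset.mul_sum, h, mul_zero]
  · -- Frobenius
    intro v hv
    induction hv using Submodule.span_induction with
    | mem v hv =>
      obtain ⟨s, rfl⟩ := hv
      refine Submodule.subset_span ⟨⟨s.1 ^ p, ?_⟩, ?_⟩
      · intro h
        exact s.2 (h.trans (orderOf_pow_dvd p))
      · funext χ
        show rd V ((χ : IrrCharacter G) : G → ℂ) ((s.1 ^ p : Subgroup.centralizer ({x} : Set G)) : G) =
          rd V ((χ : IrrCharacter G) : G → ℂ) ((s.1 : Subgroup.centralizer ({x} : Set G)) : G) ^ p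
        rw [H352.OneP.frob_mod hM hV, Subgroup.coe_pow]
    | zero =>
      have h0 : (fun b => (0 : principalBlock M G → ResidueField V) b ^ p) = 0 := by
        funext b
        simp [hp.out.ne_zero]
      rw [h0]
      exact Submodule.zero_mem _
    | add v w _ _ h h' =>
      have h0 : (fun b => (v + w) b ^ p) = (fun b => v b ^ p) + fun b => w b ^ p := by
        funext b
        exact add_pow_char _ _ p
      rw [h0]
      exact Submodule.add_mem _ h h'
    | smul c v _ h =>
      have h0 : (fun b => (c • v) b ^ p) = c ^ p • fun b => v b ^ p := by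
        funext b
        rw [Pi.smul_apply, Pi.smul_apply, smul_eq_mul, smul_eq_mul, mul_pow]
      rw [h0]
      exact Submodule.smul_mem _ _ h
  · -- the dimension
    rw [← Matrix.rank_eq_finrank_span_row, Matrix.rank_eq_finrank_span_cols]
    refine he.trans ((H973.RankMod.rank_mod hM hV).trans (Submodule.finrank_mono ?_))
    rw [Submodule.span_le]
    rintro _ ⟨ψ, hψ, rfl⟩
    obtain ⟨a, ha⟩ := exists_lift hM hV hx hψ (hst ψ hψ)
    have h1 : (fun s : {s : Subgroup.centralizer ({x} : Set G) // ¬ p ∣ orderOf s} =>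
        rd V (ψ : Subgroup.centralizer ({x} : Set G) → ℂ) s) = ∑ χ : principalBlock M G, a χ • A.col χ := by
      funext s
      rw [ha s s.2, Finset.sum_apply, ← hsum fun χ => a χ * rd V (χ : G → ℂ) ((s.1 : Subgroup.centralizer ({x} : Set G)) : G)]
      rfl
    show (fun s : {s : Subgroup.centralizer ({x} : Set G) // ¬ p ∣ orderOf s} =>
        rd V (ψ : Subgroup.centralizer ({x} : Set G) → ℂ) s) ∈ _
    rw [h1]
    exact Submodule.sum_mem _ fun χ _ => Submodule.smul_mem _ _ (Submodule.subset_span ⟨χ, rfl⟩)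

end Cfsg.Agent.H634.OneP
end

-- part: H963/OneP/RankPrime
section
/-!
# `l(B₀) = e` for a group with Sylow `p`-subgroup of order `p` (`p` odd)
-/

set_option autoImplicit false

namespace Cfsg.Agent.H963.OneP.RankPrime

open Cfsg Subgroup Cfsg.Agent.H595.AbCount

universe u

variable {G : Type u} [Group G] [Finite G] {p : ℕ} [hp : Fact p.Prime] {M : Ideal AlgInt}

theorem centralizer_eq (P : Sylow p G) (hP : Nat.card P = p) {u : G}
    (hu : u ∈ (P : Subgroup G)) (hu1 : u ≠ 1) :
    centralizer ({u} : Set G) = centralizer ((P : Subgroup G) : Set G) := by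
  have hou : orderOf u = p := by
    have h1 : orderOf u ∣ p := by
      rw [← hP]
      exact Subgroup.orderOf_dvd_natCard _ hu
    rcases (Nat.dvd_prime hp.out).1 h1 with h | h
    · exact absurd (orderOf_eq_one_iff.1 h) hu1
    · exact h
  have h1 : zpowers u = (P : Subgroup G) := by
    apply Subgroup.eq_of_le_of_card_ge (zpowers_le.2 hu)
    rw [Nat.card_zpowers, hou, hP]
  ext g
  rw [mem_centralizer_singleton_iff, mem_centralizer_iff, ← h1]
  constructor
  · rintro h _ ⟨i, rfl⟩
    exact ((show Commute g u from h).zpow_right i).eq.symm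
  · intro h
    exact (h u (mem_zpowers u)).symm

omit [Finite G] in
theorem comm_of_prime (P : Sylow p G) (hP : Nat.card P = p) {x y : G} (hx : x ∈ (P : Subgroup G))
    (hy : y ∈ (P : Subgroup G)) : x * y = y * x := by
  have hcyc : IsCyclic P := isCyclic_of_prime_card hP
  obtain ⟨g, hg⟩ := hcyc.exists_generator
  obtain ⟨i, hi⟩ := mem_zpowers_iff.1 (hg ⟨x, hx⟩)
  obtain ⟨j, hj⟩ := mem_zpowers_iff.1 (hg ⟨y, hy⟩)
  have h : (⟨x, hx⟩ : P) * ⟨y, hy⟩ = ⟨y, hy⟩ * ⟨x, hx⟩ := by
    rw [← hi, ← hj, ← zpow_add, ← zpow_add, add_comm]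
  exact congrArg Subtype.val h

theorem rank_centralizer (hM : IsPModular p M) (P : Sylow p G) (hP : Nat.card P = p) {u : G}
    (hu : u ∈ (P : Subgroup G)) (hu1 : u ≠ 1) :
    blockRank p (principalBlock M (centralizer ({u} : Set G))) = 1 := by
  have : Fintype ↥(centralizer ({u} : Set G)) := Fintype.ofFinite _
  refine S4646.rank_one_of_compl hM ?_
  have hC := centralizer_eq P hP hu hu1
  have hcomm : ∀ x ∈ (P : Subgroup G), x ∈ centralizer ({u} : Set G) := by
    intro x hx
    rw [mem_centralizer_singleton_iff]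
    exact comm_of_prime P hP hx hu
  apply hnc_of_le (P.subtype hcomm)
  intro h _
  have h1 : (h : G) ∈ centralizer ((P : Subgroup G) : Set G) := hC ▸ h.2
  rw [mem_centralizer_iff]
  intro g hg
  apply Subtype.ext
  exact mem_centralizer_iff.1 h1 g (mem_subgroupOf.1 hg)

theorem ncard_conj (P : Sylow p G) (hP : Nat.card P = p) {u : G}
    (hu : u ∈ (P : Subgroup G)) (hu1 : u ≠ 1) :
    {v : G | v ∈ (P : Subgroup G) ∧ IsConj v u}.ncard =
      (centralizer ((P : Subgroup G) : Set G)).relIndex (normalizer ((P : Subgroup G) : Set G)) := by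
  have hcomm : IsMulCommutative (P : Subgroup G) :=
    ⟨⟨fun x y => Subtype.ext (comm_of_prime P hP x.2 y.2)⟩⟩
  set N := normalizer ((P : Subgroup G) : Set G) with hN
  let _ : MulAction N G := MulAction.compHom G ((MulAut.conj (G := G)).comp N.subtype)
  have hsm : ∀ (n : N) (g : G), n • g = (n : G) * g * (n : G)⁻¹ := fun n g => rfl
  have h1 : MulAction.orbit N u = {v : G | v ∈ (P : Subgroup G) ∧ IsConj v u} := by
    ext v
    constructor
    · rintro ⟨n, rfl⟩
      refine ⟨?_, ?_⟩
      · show n • u ∈ _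
        rw [hsm]
        exact (mem_normalizer_iff.1 n.2 u).1 hu
      · show IsConj (n • u) u
        rw [hsm]
        exact IsConj.symm (isConj_iff.2 ⟨n, rfl⟩)
    · rintro ⟨hv, hc⟩
      obtain ⟨g, hg⟩ := isConj_iff.1 hc.symm
      obtain ⟨n, hn, h⟩ := P.conj_eq_normalizer_conj_of_mem u g⁻¹ hu (by
        rw [inv_inv, hg]; exact hv)
      rw [inv_inv, hg] at h
      refine ⟨⟨n⁻¹, N.inv_mem hn⟩, ?_⟩
      show (⟨n⁻¹, N.inv_mem hn⟩ : N) • u = v
      rw [hsm, h]
      simp
  have h2 : MulAction.stabilizer N u =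
      (centralizer ((P : Subgroup G) : Set G)).subgroupOf N := by
    ext n
    rw [MulAction.mem_stabilizer_iff, hsm, mem_subgroupOf, ← centralizer_eq P hP hu hu1,
      mem_centralizer_singleton_iff]
    exact mul_inv_eq_iff_eq_mul
  rw [← h1, ← MulAction.index_stabilizer, h2]
  rfl

/-- **`l(B₀) = e`.** -/
theorem rank_prime (hM : IsPModular p M) (hp2 : p ≠ 2) (P : Sylow p G) (hP : Nat.card P = p) :
    blockRank p (principalBlock M G) =
      (centralizer ((P : Subgroup G) : Set G)).relIndex
        (normalizer ((P : Subgroup G) : Set G)) := by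
  classical
  have := Fintype.ofFinite G
  set e := (centralizer ((P : Subgroup G) : Set G)).relIndex
        (normalizer ((P : Subgroup G) : Set G)) with he
  have he0 : 0 < e := Nat.pos_of_ne_zero Subgroup.index_ne_zero_of_finite
  obtain ⟨X, h1X, hX, hXrep⟩ := H634.Cols.exists_reps (p := p) ({1} : Finset G)
    (by intro x hx; rw [Finset.mem_singleton.1 hx]; exact ⟨0, by simp⟩)
    (by
      intro x hx y hy _
      rw [Finset.mem_singleton.1 hx, Finset.mem_singleton.1 hy])
  have h1 : (1 : G) ∈ X := h1X (Finset.mem_singleton_self 1)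
  have hk := H634.Cols.card_principal_eq hM X hX hXrep
  rw [(S0960.result p M hM hp2 P hP e rfl).1, ← Finset.add_sum_erase X _ h1,
    rank_of_eq_top (G := G) (H := centralizer ({(1 : G)} : Set G)) (by
      rw [eq_top_iff]; intro g _; rw [mem_centralizer_singleton_iff]; simp)] at hk
  have hrest : ∀ x ∈ X.erase 1, ∃ v ∈ (P : Subgroup G), IsConj x v ∧ v ≠ 1 := by
    intro x hx
    obtain ⟨hx1, hxX⟩ := Finset.mem_erase.1 hx
    obtain ⟨v, hv, hxv⟩ := exists_conj_mem P (hX x hxX)
    refine ⟨v, hv, hxv, ?_⟩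
    rintro rfl
    exact hx1 (isConj_one_left.1 hxv)
  have hone : ∀ x ∈ X.erase 1,
      blockRank p (principalBlock M (centralizer ({x} : Set G))) = 1 := by
    intro x hx
    obtain ⟨v, hv, hxv, hv1⟩ := hrest x hx
    rw [rank_conj hxv, rank_centralizer hM P hP hv hv1]
  rw [Finset.sum_congr rfl hone, Finset.sum_const, smul_eq_mul, mul_one] at hk
  -- counting
  let Pf : Finset G := Finset.univ.filter fun g => g ∈ (P : Subgroup G) ∧ g ≠ 1
  have hcount : e * (X.erase 1).card = p - 1 := by
    have hA : ∀ x ∈ X.erase 1, (Pf.filter (fun u => IsConj u x)).card = e := by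
      intro x hx
      obtain ⟨v, hv, hxv, hv1⟩ := hrest x hx
      rw [he, ← ncard_conj P hP hv hv1, ← Set.ncard_coe_finset]
      congr 1
      ext u
      simp only [Finset.coe_filter, Finset.mem_filter, Finset.mem_univ, true_and,
        Set.mem_ofPred_eq, Pf]
      constructor
      · exact fun h => ⟨h.1.1, h.2.trans hxv⟩
      · refine fun h => ⟨⟨h.1, ?_⟩, h.2.trans hxv.symm⟩
        rintro rfl
        exact hv1 (isConj_one_right.1 h.2)
    have hB : ∑ x ∈ X.erase 1, (Pf.filter (fun u => IsConj u x)).card = Pf.card := by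
      have h2 : ∀ x ∈ X.erase 1, (Pf.filter (fun u => IsConj u x)).card =
          ∑ u ∈ Pf, if IsConj u x then 1 else 0 := fun x _ => by rw [Finset.card_filter]
      rw [Finset.sum_congr rfl h2, Finset.sum_comm, Finset.card_eq_sum_ones]
      refine Finset.sum_congr rfl fun u hu => ?_
      obtain ⟨huP, hu1⟩ := (Finset.mem_filter.1 hu).2
      have hpu : ∃ k : ℕ, orderOf u = p ^ k := by
        obtain ⟨k, hk⟩ := (IsPGroup.iff_orderOf.1 P.2) ⟨u, huP⟩
        exact ⟨k, by rw [← hk, Subgroup.orderOf_mk]⟩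
      obtain ⟨x, ⟨hxX, hxu⟩, huniq⟩ := hXrep u hpu
      have hx1 : x ≠ 1 := by
        rintro rfl
        exact hu1 (isConj_one_left.1 hxu)
      rw [Finset.sum_eq_single x, if_pos hxu]
      · intro y hy hne
        rw [if_neg]
        intro hc
        exact hne (huniq y ⟨(Finset.mem_erase.1 hy).2, hc⟩)
      · intro h
        exact absurd (Finset.mem_erase.2 ⟨hx1, hxX⟩) h
    have hC : Pf.card = p - 1 := by
      have h3 : Pf = (Finset.univ.filter fun g => g ∈ (P : Subgroup G)).erase 1 := by
        ext g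
        simp only [Pf, Finset.mem_filter, Finset.mem_univ, true_and, Finset.mem_erase]
        (clear * -; tauto)
      rw [h3, Finset.card_erase_of_mem (by simp [P.one_mem])]
      congr 1
      refine Eq.trans ?_ hP
      rw [← Fintype.card_subtype, ← Nat.card_eq_fintype_card]
    rw [Finset.sum_congr rfl hA, Finset.sum_const, smul_eq_mul, hC] at hB
    rw [mul_comm]; exact hB
  have hd : (p - 1) / e = (X.erase 1).card := by
    rw [← hcount]
    exact Nat.mul_div_cancel_left _ he0
  rw [hd] at hk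
  omega

end Cfsg.Agent.H963.OneP.RankPrime
end

-- part: H426/OneP/Triv
section
/-!
# S4880, piece B8c (helper426)

`triv`: the members of the principal block of `C_G(x)` are invariant under `N_G(⟨x⟩)` on the `p`-regular elements,
from the case of a normal subgroup with Sylow `p`-subgroup of order `p` (hypothesis `H8b`, the piece B8b).
-/

set_option autoImplicit false

open Cfsg

namespace Cfsg.Agent.H426.OneP

open Cfsg.Agent.H71.HSpanQuot Cfsg.Agent.H644.CentralQuot

universe u

/-- the statement of B8b -/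
def NormalTriv (p : ℕ) [Fact p.Prime] (M : Ideal AlgInt) : Prop :=
  ∀ {X : Type u} [Group X] [Finite X] (_ : IsPModular p M) (_ : p ≠ 2)
    (C : Subgroup X) [C.Normal] (P : Sylow p X) (_ : Nat.card P = p) (_ : (P : Subgroup X) ≤ C)
    (_ : p - 1 ≤ 2 * (Subgroup.centralizer ((P : Subgroup X) : Set X)).relIndex
      (Subgroup.normalizer ((P : Subgroup X) : Set X) ⊓ C))
    {ψ : IrrCharacter C} (_ : ψ ∈ principalBlock M C) (c : X) (s s' : C) (_ : ¬ p ∣ orderOf s)
    (_ : (s' : X) = c * s * c⁻¹), (ψ : C → ℂ) s' = (ψ : C → ℂ) s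

variable {G : Type u} [Group G] [Finite G] {p : ℕ} [hp : Fact p.Prime] {M : Ideal AlgInt}

/-- An element normalizing the abelian Sylow subgroup `P`, centralizing `x` and the quotient `P / ⟨x⟩`
centralizes `P`. -/
theorem mem_centralizer_of_quot (P : Sylow p G) (hel : ∀ y ∈ (P : Subgroup G), y ^ p = 1)
    (habel : ∀ a ∈ (P : Subgroup G), ∀ b ∈ (P : Subgroup G), a * b = b * a) {x c : G}
    (hx : x ∈ (P : Subgroup G))
    (hc : c ∈ Subgroup.normalizer ((P : Subgroup G) : Set G)) (hcx : c ∈ Subgroup.centralizer ({x} : Set G))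
    (h : ∀ y ∈ (P : Subgroup G), y⁻¹ * (c * y * c⁻¹) ∈ Subgroup.zpowers x) :
    c ∈ Subgroup.centralizer ((P : Subgroup G) : Set G) := by
  have hcx' : Commute c x := Subgroup.mem_centralizer_singleton_iff.1 hcx
  have hp0 := hp.out
  -- `c ^ p` centralizes `P`
  have h1 : c ^ p ∈ Subgroup.centralizer ((P : Subgroup G) : Set G) := by
    rw [Subgroup.mem_centralizer_iff]
    intro y hy
    obtain ⟨i, hi⟩ := Subgroup.mem_zpowers_iff.1 (h y hy)
    have hyi : c * y * c⁻¹ = y * x ^ i := by rw [hi]; group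
    have key : ∀ k : ℕ, c ^ k * y * (c ^ k)⁻¹ = y * (x ^ i) ^ k := by
      intro k
      induction k with
      | zero => simp
      | succ k ih =>
        have e1 : c ^ (k + 1) * y * (c ^ (k + 1))⁻¹ = c * (c ^ k * y * (c ^ k)⁻¹) * c⁻¹ := by
          rw [pow_succ']; group
        have e2 : Commute c ((x ^ i) ^ k) := (hcx'.zpow_right i).pow_right k
        rw [e1, ih]
        calc c * (y * (x ^ i) ^ k) * c⁻¹ = (c * y * c⁻¹) * (c * (x ^ i) ^ k * c⁻¹) := by group
          _ = (y * x ^ i) * (x ^ i) ^ k := by rw [hyi, e2.eq, mul_inv_cancel_right]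
          _ = y * (x ^ i) ^ (k + 1) := by rw [mul_assoc, ← pow_succ']
    have h2 := key p
    have h3 : (x ^ i) ^ p = 1 := by
      rw [← zpow_natCast, ← zpow_mul, mul_comm, zpow_mul, zpow_natCast, hel x hx, one_zpow]
    rw [h3, mul_one] at h2
    have h4 : c ^ p * y = y * c ^ p := mul_inv_eq_iff_eq_mul.1 h2
    exact h4.symm
  -- the index of `C_G(P)` in `N_G(P)` is prime to `p`
  set N := Subgroup.normalizer ((P : Subgroup G) : Set G) with hN
  set D := Subgroup.centralizer ((P : Subgroup G) : Set G) with hD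
  have hPD : (P : Subgroup G) ≤ D := fun a ha => Subgroup.mem_centralizer_iff.2 fun b hb => habel b hb a ha
  have hDN : D ≤ N := Subgroup.centralizer_le_normalizer _
  have hnd : ¬ p ∣ D.relIndex N := by
    intro h5
    apply P.not_dvd_index
    have h6 : D.relIndex N ∣ (P : Subgroup G).relIndex N := Subgroup.relIndex_dvd_of_le_left N hPD
    exact (h5.trans h6).trans (Subgroup.relIndex_dvd_index_of_le (hPD.trans hDN))
  have hnorm : (D.subgroupOf N).Normal := by
    rw [hD, hN]
    exact Subgroup.normal_subgroupOf_centralizer_normalizer _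
  have h7 : c ^ D.relIndex N ∈ D := by
    have h8 := Subgroup.pow_index_mem (D.subgroupOf N) ⟨c, hc⟩
    exact h8
  have hcop : Nat.Coprime p (D.relIndex N) := (Nat.Prime.coprime_iff_not_dvd hp0).2 hnd
  have h9 := Nat.gcd_eq_gcd_ab p (D.relIndex N)
  rw [hcop] at h9
  have h10 : c = (c ^ p) ^ (Nat.gcdA p (D.relIndex N)) * (c ^ D.relIndex N) ^ (Nat.gcdB p (D.relIndex N)) := by
    rw [← zpow_natCast, ← zpow_natCast, ← zpow_mul, ← zpow_mul, ← zpow_add, ← h9]
    simp
  rw [h10]
  exact D.mul_mem (D.zpow_mem h1 _) (D.zpow_mem h7 _)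

/-- B8c, from B8b. -/
theorem triv_of (H8b : NormalTriv.{u} p M) (hM : IsPModular p M) (hp2 : p ≠ 2) (P : Sylow p G)
    (hP : Nat.card P = p ^ 2)
    (hel : ∀ x ∈ (P : Subgroup G), x ^ p = 1) {x : G} (hx : x ∈ (P : Subgroup G)) (hx1 : x ≠ 1)
    (hE : p - 1 ≤ 2 * (Subgroup.centralizer ((P : Subgroup G) : Set G)).relIndex
      (Subgroup.normalizer ((P : Subgroup G) : Set G) ⊓ Subgroup.centralizer ({x} : Set G)))
    {ψ : IrrCharacter (Subgroup.centralizer ({x} : Set G))}
    (hψ : ψ ∈ principalBlock M (Subgroup.centralizer ({x} : Set G)))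
    {n : G} (hn : n ∈ Subgroup.normalizer ((Subgroup.zpowers x : Subgroup G) : Set G))
    (s s' : Subgroup.centralizer ({x} : Set G)) (hs : ¬ p ∣ orderOf s)
    (hc : (s' : G) = n * s * n⁻¹) :
    (ψ : Subgroup.centralizer ({x} : Set G) → ℂ) s' =
      (ψ : Subgroup.centralizer ({x} : Set G) → ℂ) s := by
  classical
  have hp0 := hp.out
  have habel : ∀ a ∈ (P : Subgroup G), ∀ b ∈ (P : Subgroup G), a * b = b * a := by
    intro a ha b hb
    have hcomm := IsPGroup.isMulCommutative_of_card_eq_prime_sq hP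
    exact congrArg Subtype.val (hcomm.is_comm.comm (⟨a, ha⟩ : P) ⟨b, hb⟩)
  have hxo : orderOf x = p := orderOf_eq_prime (hel x hx) hx1
  let H : Subgroup G := Subgroup.normalizer ((Subgroup.zpowers x : Subgroup G) : Set G)
  have hCz : Subgroup.centralizer ({x} : Set G) = Subgroup.centralizer ((Subgroup.zpowers x : Subgroup G) : Set G) := by
    ext g
    rw [Subgroup.mem_centralizer_singleton_iff, Subgroup.mem_centralizer_iff]
    constructor
    · rintro h _ ⟨i, rfl⟩
      exact ((show Commute g x from h).zpow_right i).eq.symm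
    · intro h
      exact (h x (Subgroup.mem_zpowers x)).symm
  let C : Subgroup G := Subgroup.centralizer ({x} : Set G)
  have hCH : C ≤ H := by
    show Subgroup.centralizer ({x} : Set G) ≤ Subgroup.normalizer ((Subgroup.zpowers x : Subgroup G) : Set G)
    rw [hCz]
    exact Subgroup.centralizer_le_normalizer _
  have hPC : (P : Subgroup G) ≤ C := fun a ha => Subgroup.mem_centralizer_singleton_iff.2 (habel a ha x hx)
  have hZC : Subgroup.zpowers x ≤ C := by
    rw [Subgroup.zpowers_le]
    exact Subgroup.mem_centralizer_singleton_iff.2 rfl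
  have hZP : Subgroup.zpowers x ≤ (P : Subgroup G) := by rwa [Subgroup.zpowers_le]
  have hPH : (P : Subgroup G) ≤ H := hPC.trans hCH
  have hZn : ((Subgroup.zpowers x).subgroupOf H).Normal := Subgroup.normal_in_normalizer
  let X := H ⧸ (Subgroup.zpowers x).subgroupOf H
  let π : H →* X := QuotientGroup.mk' _
  have hπs : Function.Surjective π := QuotientGroup.mk'_surjective _
  have hπker : ∀ h : H, π h = 1 ↔ (h : G) ∈ Subgroup.zpowers x := by
    intro h
    rw [QuotientGroup.mk'_apply, QuotientGroup.eq_one_iff, Subgroup.mem_subgroupOf]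
  have hCn : (C.subgroupOf H).Normal := by
    show ((Subgroup.centralizer ({x} : Set G)).subgroupOf
      (Subgroup.normalizer ((Subgroup.zpowers x : Subgroup G) : Set G))).Normal
    rw [hCz]
    exact Subgroup.normal_subgroupOf_centralizer_normalizer _
  let CX : Subgroup X := (C.subgroupOf H).map π
  have hCXn : CX.Normal := hCn.map π hπs
  let PX : Sylow p X := (P.subtype hPH).mapSurjective hπs
  have hPXc : (PX : Subgroup X) = ((P : Subgroup G).subgroupOf H).map π := rfl
  have hPXC : (PX : Subgroup X) ≤ CX := by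
    rw [hPXc]
    exact Subgroup.map_mono (fun a ha => hPC ha)
  have hmemPX : ∀ y (hy : y ∈ (P : Subgroup G)), π ⟨y, hPH hy⟩ ∈ (PX : Subgroup X) := fun y hy => by
    rw [hPXc]; exact ⟨⟨y, hPH hy⟩, hy, rfl⟩
  have hcardZ : Nat.card (Subgroup.zpowers x) = p := by rw [Nat.card_zpowers, hxo]
  have hPXcard : Nat.card PX = p := by
    let f : P →* X := π.comp (Subgroup.inclusion hPH)
    have h1 : f.range = (PX : Subgroup X) := by
      ext y
      rw [hPXc]
      constructor
      · rintro ⟨a, rfl⟩
        exact ⟨⟨a, hPH a.2⟩, a.2, rfl⟩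
      · rintro ⟨a, ha, rfl⟩
        exact ⟨⟨a, ha⟩, rfl⟩
    have h2 : f.ker = (Subgroup.zpowers x).subgroupOf (P : Subgroup G) := by
      ext y
      rw [MonoidHom.mem_ker, Subgroup.mem_subgroupOf]
      exact hπker _
    have h3 := f.ker.card_mul_index
    rw [Subgroup.index_ker, h1, h2, Nat.card_congr (Subgroup.subgroupOfEquivOfLe hZP).toEquiv, hcardZ, hP,
      pow_two] at h3
    exact Nat.eq_of_mul_eq_mul_left hp0.pos h3
  have hE' : p - 1 ≤ 2 * (Subgroup.centralizer ((PX : Subgroup X) : Set X)).relIndex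
      (Subgroup.normalizer ((PX : Subgroup X) : Set X) ⊓ CX) := by
    refine hE.trans (Nat.mul_le_mul_left 2 ?_)
    let NC : Subgroup G := Subgroup.normalizer ((P : Subgroup G) : Set G) ⊓ C
    have hNCH : NC ≤ H := inf_le_right.trans hCH
    let f : NC →* X := π.comp (Subgroup.inclusion hNCH)
    have hf : ∀ c : NC, f c = π ⟨c, hNCH c.2⟩ := fun c => rfl
    have hr : f.range ≤ Subgroup.normalizer ((PX : Subgroup X) : Set X) ⊓ CX := by
      rintro _ ⟨c, rfl⟩
      refine ⟨?_, ⟨⟨c, hNCH c.2⟩, c.2.2, rfl⟩⟩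
      have hsub : ∀ c : NC, ∀ y ∈ (PX : Subgroup X), f c * y * (f c)⁻¹ ∈ (PX : Subgroup X) := by
        intro c y hy
        rw [hPXc] at hy
        obtain ⟨a, ha, rfl⟩ := hy
        have h1 : (c : G) * a * (c : G)⁻¹ ∈ (P : Subgroup G) := (Subgroup.mem_normalizer_iff.1 c.2.1 a).1 ha
        have h2 := hmemPX _ h1
        have h3 : π ⟨(c : G) * a * (c : G)⁻¹, hPH h1⟩ = f c * π a * (f c)⁻¹ := by
          rw [hf, ← map_mul, ← map_inv, ← map_mul]
          rfl
        rwa [h3] at h2
      change f c ∈ Subgroup.normalizer ((PX : Subgroup X) : Set X)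
      rw [Subgroup.mem_normalizer_iff]
      intro y
      refine ⟨hsub c y, fun h => ?_⟩
      have h1 := hsub c⁻¹ _ h
      have h2 : f c⁻¹ * (f c * y * (f c)⁻¹) * (f c⁻¹)⁻¹ = y := by
        rw [map_inv]; group
      rwa [h2] at h1
    have hcomap : (Subgroup.centralizer ((PX : Subgroup X) : Set X)).comap f =
        (Subgroup.centralizer ((P : Subgroup G) : Set G)).subgroupOf NC := by
      ext c
      rw [Subgroup.mem_comap, Subgroup.mem_subgroupOf]
      constructor
      · intro h
        refine mem_centralizer_of_quot P hel habel hx c.2.1 c.2.2 fun y hy => ?_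
        have h1 : (c : G) * y * (c : G)⁻¹ ∈ (P : Subgroup G) := (Subgroup.mem_normalizer_iff.1 c.2.1 y).1 hy
        have h2 := Subgroup.mem_centralizer_iff.1 h _ (hmemPX y hy)
        have h4 : π ⟨y⁻¹ * ((c : G) * y * (c : G)⁻¹), hPH (mul_mem (inv_mem hy) h1)⟩ = 1 := by
          have h5 : π ⟨y⁻¹ * ((c : G) * y * (c : G)⁻¹), hPH (mul_mem (inv_mem hy) h1)⟩ =
              (π ⟨y, hPH hy⟩)⁻¹ * (f c * π ⟨y, hPH hy⟩ * (f c)⁻¹) := by
            rw [hf, ← map_inv π, ← map_inv π, ← map_mul, ← map_mul, ← map_mul]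
            rfl
          rw [h5, ← h2]
          group
        exact (hπker _).1 h4
      · intro h
        rw [Subgroup.mem_centralizer_iff]
        intro y hy
        rw [hPXc] at hy
        obtain ⟨a, ha, rfl⟩ := hy
        rw [hf, ← map_mul, ← map_mul]
        congr 1
        exact Subtype.ext (Subgroup.mem_centralizer_iff.1 h _ ha)
    have h1 : (Subgroup.centralizer ((P : Subgroup G) : Set G)).relIndex NC =
        (Subgroup.centralizer ((PX : Subgroup X) : Set X)).relIndex f.range := by
      rw [← Subgroup.index_comap, hcomap]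
      rfl
    have h2 : (Subgroup.centralizer ((PX : Subgroup X) : Set X)).relIndex f.range ≤
        (Subgroup.centralizer ((PX : Subgroup X) : Set X)).relIndex
          (Subgroup.normalizer ((PX : Subgroup X) : Set X) ⊓ CX) :=
      Subgroup.relIndex_le_of_le_right hr Subgroup.index_ne_zero_of_finite
    exact h1.le.trans h2
  -- the projection `C → CX`
  let U : Subgroup C := (Subgroup.zpowers x).subgroupOf C
  have hUc : U ≤ Subgroup.center C := by
    intro u hu
    rw [Subgroup.mem_center_iff]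
    intro g
    apply Subtype.ext
    have h1 : (g : G) ∈ Subgroup.centralizer ((Subgroup.zpowers x : Subgroup G) : Set G) := hCz.le g.2
    exact (Subgroup.mem_centralizer_iff.1 h1 _ hu).symm
  have hUn : U.Normal := by
    constructor
    intro u hu g
    have h1 := Subgroup.mem_center_iff.1 (hUc hu) g
    rwa [h1, mul_inv_cancel_right]
  have hUp : IsPGroup p U := IsPGroup.of_card (n := 1) (by
    rw [Nat.card_congr (Subgroup.subgroupOfEquivOfLe hZC).toEquiv, hcardZ, pow_one])
  let f : C →* CX := (π.comp (Subgroup.inclusion hCH)).codRestrict CX fun c => ⟨⟨c, hCH c.2⟩, c.2, rfl⟩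
  have hf : ∀ c : C, (f c : X) = π ⟨c, hCH c.2⟩ := fun c => rfl
  have hfs : Function.Surjective f := by
    rintro ⟨_, c, hc', rfl⟩
    exact ⟨⟨c, hc'⟩, rfl⟩
  have hfk : f.ker = U := by
    ext c
    rw [MonoidHom.mem_ker]
    constructor
    · intro h
      have h1 := congrArg Subtype.val h
      exact (hπker _).1 h1
    · intro h
      exact Subtype.ext ((hπker _).2 h)
  let e : C ⧸ U ≃* CX := (QuotientGroup.quotientMulEquivOfEq hfk.symm).trans
    (QuotientGroup.quotientKerEquivOfSurjective f hfs)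
  have he : ∀ c : C, e (c : C ⧸ U) = f c := fun c => rfl
  have : Finite (IrrCharacter (C ⧸ U)) := Characters.Core.finite_irr
  have := Fintype.ofFinite (IrrCharacter (C ⧸ U))
  obtain ⟨a, ha⟩ := exists_int_infl hM U hUc hUp hψ
  have hs' : ¬ p ∣ orderOf s' := by
    have h1 : orderOf (s' : G) = orderOf (s : G) := by
      rw [hc]
      exact (orderOf_injective (MulAut.conj n).toMonoidHom (MulAut.conj n).injective (s : G))
    rw [← Subgroup.orderOf_coe, h1, Subgroup.orderOf_coe]
    exact hs
  rw [ha s hs, ha s' hs']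
  refine Finset.sum_congr rfl fun θ hθ => ?_
  congr 1
  have h1 : H649.irrMap e θ ∈ principalBlock M CX := by
    rw [← H649.blkMap_principalBlock e, H649.irrMap_mem_blkMap]
    exact (Finset.mem_filter.1 hθ).2
  have h2 := H8b hM hp2 CX PX hPXcard hPXC hE' h1 (π ⟨n, hn⟩) (f s) (f s') ?_ ?_
  · rw [← he, ← he, H649.irrMap_apply', H649.irrMap_apply'] at h2
    exact h2
  · exact fun h => hs (h.trans (orderOf_map_dvd f s))
  · rw [hf, hf, ← map_mul, ← map_inv, ← map_mul]
    congr 1
    exact Subtype.ext hc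

end Cfsg.Agent.H426.OneP
end

-- part: H963/OneP/RankEq
section
/-!
# S4880, piece B6: `l(B₀(C_G(x))) = e` for a Sylow `p`-subgroup of order `p²`
-/

set_option autoImplicit false

namespace Cfsg.Agent.H963.OneP.RankEq

open Cfsg Subgroup

universe u

variable {G : Type u} [Group G] [Finite G] {p : ℕ} [hp : Fact p.Prime] {M : Ideal AlgInt}

/-- B6. -/
theorem rank_eq (hM : IsPModular p M) (hp2 : p ≠ 2) (P : Sylow p G) (hP : Nat.card P = p ^ 2)
    (hel : ∀ x ∈ (P : Subgroup G), x ^ p = 1) {x : G} (hx : x ∈ (P : Subgroup G)) (hx1 : x ≠ 1) :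
    blockRank p (principalBlock M (Subgroup.centralizer ({x} : Set G))) =
      (Subgroup.centralizer ((P : Subgroup G) : Set G)).relIndex
        (Subgroup.normalizer ((P : Subgroup G) : Set G) ⊓ Subgroup.centralizer ({x} : Set G)) := by
  classical
  have hp0 := hp.out
  have habel : ∀ a ∈ (P : Subgroup G), ∀ b ∈ (P : Subgroup G), a * b = b * a := by
    intro a ha b hb
    have hcomm := IsPGroup.isMulCommutative_of_card_eq_prime_sq hP
    exact congrArg Subtype.val (hcomm.is_comm.comm (⟨a, ha⟩ : P) ⟨b, hb⟩)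
  have hxo : orderOf x = p := orderOf_eq_prime (hel x hx) hx1
  let C : Subgroup G := centralizer ({x} : Set G)
  have hCz : C = centralizer ((zpowers x : Subgroup G) : Set G) := by
    ext g
    show g ∈ centralizer ({x} : Set G) ↔ _
    rw [mem_centralizer_singleton_iff, mem_centralizer_iff]
    constructor
    · rintro h _ ⟨i, rfl⟩
      exact ((show Commute g x from h).zpow_right i).eq.symm
    · intro h
      exact (h x (mem_zpowers x)).symm
  have hPC : (P : Subgroup G) ≤ C := fun a ha =>
    mem_centralizer_singleton_iff.2 (habel a ha x hx)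
  have hZC : zpowers x ≤ C := by
    rw [zpowers_le]
    exact mem_centralizer_singleton_iff.2 rfl
  have hZP : zpowers x ≤ (P : Subgroup G) := by rwa [zpowers_le]
  let Z : Subgroup C := (zpowers x).subgroupOf C
  have hZc : Z ≤ center C := by
    intro u hu
    rw [mem_center_iff]
    intro g
    apply Subtype.ext
    have h1 : (g : G) ∈ centralizer ((zpowers x : Subgroup G) : Set G) := hCz.le g.2
    exact (mem_centralizer_iff.1 h1 _ hu).symm
  have hZn : Z.Normal := by
    constructor
    intro u hu g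
    have h1 := mem_center_iff.1 (hZc hu) g
    rw [h1, mul_inv_cancel_right]
    exact hu
  have hcardZ : Nat.card (zpowers x) = p := by rw [Nat.card_zpowers, hxo]
  have hZp : IsPGroup p Z := by
    refine IsPGroup.of_card (n := 1) ?_
    rw [Nat.card_congr (subgroupOfEquivOfLe hZC).toEquiv, hcardZ, pow_one]
  let X := C ⧸ Z
  let π : C →* X := QuotientGroup.mk' Z
  have hπs : Function.Surjective π := QuotientGroup.mk'_surjective _
  have hπker : ∀ h : C, π h = 1 ↔ (h : G) ∈ zpowers x := by
    intro h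
    rw [QuotientGroup.mk'_apply, QuotientGroup.eq_one_iff, mem_subgroupOf]
  let PX : Sylow p X := (P.subtype hPC).mapSurjective hπs
  have hPXc : (PX : Subgroup X) = ((P : Subgroup G).subgroupOf C).map π := rfl
  have hmemPX : ∀ y (hy : y ∈ (P : Subgroup G)), π ⟨y, hPC hy⟩ ∈ (PX : Subgroup X) := fun y hy => by
    rw [hPXc]; exact ⟨⟨y, hPC hy⟩, hy, rfl⟩
  have hPXcard : Nat.card PX = p := by
    let f : P →* X := π.comp (inclusion hPC)
    have h1 : f.range = (PX : Subgroup X) := by
      ext y
      rw [hPXc]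
      constructor
      · rintro ⟨a, rfl⟩
        exact ⟨⟨a, hPC a.2⟩, a.2, rfl⟩
      · rintro ⟨a, ha, rfl⟩
        exact ⟨⟨a, ha⟩, rfl⟩
    have h2 : f.ker = (zpowers x).subgroupOf (P : Subgroup G) := by
      ext y
      rw [MonoidHom.mem_ker, mem_subgroupOf]
      exact hπker _
    have h3 := f.ker.card_mul_index
    rw [index_ker, h1, h2, Nat.card_congr (subgroupOfEquivOfLe hZP).toEquiv, hcardZ, hP,
      pow_two] at h3
    exact Nat.eq_of_mul_eq_mul_left hp0.pos h3
  have hr1 : blockRank p (principalBlock M C) = blockRank p (principalBlock M X) :=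
    H650.E27.blockRank_quot hM hZc hZp
  have hr2 := RankPrime.rank_prime hM hp2 PX hPXcard
  -- the inertial index
  let NC : Subgroup G := normalizer ((P : Subgroup G) : Set G) ⊓ C
  have hNCH : NC ≤ C := inf_le_right
  let f : NC →* X := π.comp (inclusion hNCH)
  have hf : ∀ c : NC, f c = π ⟨c, hNCH c.2⟩ := fun c => rfl
  have hsub : ∀ c : NC, ∀ y ∈ (PX : Subgroup X), f c * y * (f c)⁻¹ ∈ (PX : Subgroup X) := by
    intro c y hy
    rw [hPXc] at hy
    obtain ⟨a, ha, rfl⟩ := hy
    have h1 : (c : G) * a * (c : G)⁻¹ ∈ (P : Subgroup G) := (mem_normalizer_iff.1 c.2.1 a).1 ha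
    have h2 := hmemPX _ h1
    have h3 : π ⟨(c : G) * a * (c : G)⁻¹, hPC h1⟩ = f c * π a * (f c)⁻¹ := by
      rw [hf, ← map_mul, ← map_inv, ← map_mul]
      rfl
    rwa [h3] at h2
  have hr : f.range = normalizer ((PX : Subgroup X) : Set X) := by
    apply le_antisymm
    · rintro _ ⟨c, rfl⟩
      rw [mem_normalizer_iff]
      intro y
      refine ⟨hsub c y, fun h => ?_⟩
      have h1 := hsub c⁻¹ _ h
      have h2 : f c⁻¹ * (f c * y * (f c)⁻¹) * (f c⁻¹)⁻¹ = y := by
        rw [map_inv]; group
      rwa [h2] at h1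
    · intro y hy
      obtain ⟨c, rfl⟩ := hπs y
      have key : ∀ d : C, π d ∈ normalizer ((PX : Subgroup X) : Set X) →
          ∀ a ∈ (P : Subgroup G), (d : G) * a * (d : G)⁻¹ ∈ (P : Subgroup G) := by
        intro d hd a ha
        have h1 := (mem_normalizer_iff.1 hd _).1 (hmemPX a ha)
        rw [← map_inv, ← map_mul, ← map_mul, hPXc] at h1
        obtain ⟨b, hb, hb2⟩ := h1
        have h2 : π (b⁻¹ * (d * ⟨a, hPC ha⟩ * d⁻¹)) = 1 := by
          rw [map_mul, map_inv, hb2, inv_mul_cancel]
        have h3 : ((b⁻¹ * (d * ⟨a, hPC ha⟩ * d⁻¹) : C) : G) ∈ (P : Subgroup G) :=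
          hZP ((hπker _).1 h2)
        have h4 : (d : G) * a * (d : G)⁻¹ =
            (b : G) * ((b⁻¹ * (d * ⟨a, hPC ha⟩ * d⁻¹) : C) : G) := by
          push_cast
          group
        rw [h4]
        exact mul_mem hb h3
      have hcN : (c : G) ∈ normalizer ((P : Subgroup G) : Set G) := by
        rw [mem_normalizer_iff]
        intro a
        refine ⟨key c hy a, fun h => ?_⟩
        have h1 := key c⁻¹ (by rw [map_inv]; exact inv_mem hy) _ h
        have h2 : ((c⁻¹ : C) : G) * ((c : G) * a * (c : G)⁻¹) * ((c⁻¹ : C) : G)⁻¹ = a := by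
          push_cast
          group
        rwa [h2] at h1
      exact ⟨⟨c, hcN, c.2⟩, rfl⟩
  have hcomap : (centralizer ((PX : Subgroup X) : Set X)).comap f =
      (centralizer ((P : Subgroup G) : Set G)).subgroupOf NC := by
    ext c
    rw [mem_comap, mem_subgroupOf]
    constructor
    · intro h
      refine H426.OneP.mem_centralizer_of_quot P hel habel hx c.2.1 c.2.2 fun y hy => ?_
      have h1 : (c : G) * y * (c : G)⁻¹ ∈ (P : Subgroup G) := (mem_normalizer_iff.1 c.2.1 y).1 hy
      have h2 := mem_centralizer_iff.1 h _ (hmemPX y hy)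
      have h4 : π ⟨y⁻¹ * ((c : G) * y * (c : G)⁻¹), hPC (mul_mem (inv_mem hy) h1)⟩ = 1 := by
        have h5 : π ⟨y⁻¹ * ((c : G) * y * (c : G)⁻¹), hPC (mul_mem (inv_mem hy) h1)⟩ =
            (π ⟨y, hPC hy⟩)⁻¹ * (f c * π ⟨y, hPC hy⟩ * (f c)⁻¹) := by
          rw [hf, ← map_inv π, ← map_inv π, ← map_mul, ← map_mul, ← map_mul]
          rfl
        rw [h5, ← h2]
        group
      exact (hπker _).1 h4
    · intro h
      rw [mem_centralizer_iff]
      intro y hy
      rw [hPXc] at hy
      obtain ⟨a, ha, rfl⟩ := hy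
      rw [hf, ← map_mul, ← map_mul]
      congr 1
      exact Subtype.ext (mem_centralizer_iff.1 h _ ha)
  have h1 : (centralizer ((P : Subgroup G) : Set G)).relIndex NC =
      (centralizer ((PX : Subgroup X) : Set X)).relIndex f.range := by
    rw [← index_comap, hcomap]
    rfl
  rw [hr] at h1
  exact hr1.trans (hr2.trans h1.symm)

end Cfsg.Agent.H963.OneP.RankEq
end
end

-- part: H634/OneP/Main
section
set_option linter.all false
open scoped Cfsg.Agent.FastGrp

-- part: H417/OneP/Stable
section
/-!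
# S4880, block half, B7: stability of the reductions

`stable`: the reduction modulo `V` of a character in the principal block of `C_G(x)`, `|x| = p`, a Sylow `p`-subgroup of order
`p ^ 2`, is constant on the `p`-regular elements of `C_G(x)` which are conjugate in `G`, if this holds for `N_G(⟨x⟩)`.
-/

set_option autoImplicit false

open Cfsg IsLocalRing

namespace Cfsg.Agent.H417.OneP

open Cfsg.Agent.H634.OneP Cfsg.Agent.H657 Cfsg.Agent.Blocks.Local

universe u

section A

variable {H : Type u} [Group H] [Finite H] {p : ℕ} {M : Ideal AlgInt} {V : ValuationSubring ℂ}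

theorem irr_mem (hV : Above M V) (ψ : IrrCharacter H) (h : H) : (ψ : H → ℂ) h ∈ V :=
  hV.mem ⟨(ψ : H → ℂ) h, Cfsg.Agent.Blocks.Central.isIntegral_irr ψ.2 h⟩

/-- a class of size prime to `p` -/
theorem rd_eq_one (hM : IsPModular p M) (hV : Above M V) {ψ : IrrCharacter H} (hψ : ψ ∈ principalBlock M H)
    {s : H} (hs : ¬ p ∣ (Subgroup.centralizer ({s} : Set H)).index) :
    rd V (ψ : H → ℂ) s = rd V (ψ : H → ℂ) 1 := by
  have : M.IsPrime := isPrime_of_isPModular hM
  set d := (Subgroup.centralizer ({s} : Set H)).index with hd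
  have h1 : MemLocalIdeal M (centralChar (fun _ : H => (1 : ℂ)) s - centralChar (ψ : H → ℂ) s) := hψ s
  have hne : (ψ : H → ℂ) 1 ≠ 0 := Cfsg.Agent.Blocks.Basic.irr_one_ne_zero ψ.2
  have hring : ∀ h : H, MemLocalRing M ((ψ : H → ℂ) h) := fun h =>
    memLocalRing_of_isIntegral (Cfsg.Agent.Blocks.Central.isIntegral_irr ψ.2 h)
  have hd0 : (d : ℂ) ≠ 0 := by
    intro h0
    apply hs
    rw [Nat.cast_eq_zero.1 h0]
    exact dvd_zero p
  have h2 := memLocalIdeal_mul_right h1 (hring 1)
  have h3 := memLocalIdeal_mul_left (memLocalRing_inv_natCast hM hs) h2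
  have h4 : ((d : ℂ))⁻¹ * ((centralChar (fun _ : H => (1 : ℂ)) s - centralChar (ψ : H → ℂ) s) * (ψ : H → ℂ) 1) =
      (ψ : H → ℂ) 1 - (ψ : H → ℂ) s := by
    rw [Cfsg.Agent.Blocks.Basic.centralChar_def, Cfsg.Agent.Blocks.Basic.centralChar_def, ← hd]
    field_simp
  rw [h4] at h3
  have h5 := hV.nonunit_of_local hM.2.1 h3
  rw [rd_of (irr_mem hV ψ s), rd_of (irr_mem hV ψ 1)]
  symm
  rw [← sub_eq_zero, ← map_sub, Above.residue_eq_zero_iff']
  exact h5

end A

section B

variable {G : Type u} [Group G] [Finite G] {p : ℕ} [hp : Fact p.Prime]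

/-- `x` of order `p` in the centralizer of `s`, of order divisible by `p ^ 2`: the class of `s` in `C_G(x)` has size prime to `p` -/
theorem not_dvd_index (P : Sylow p G) (hP : Nat.card P = p ^ 2) {x : G} (hxo : orderOf x = p)
    (s : Subgroup.centralizer ({x} : Set G)) (h : p ^ 2 ∣ Nat.card (Subgroup.centralizer ({(s : G)} : Set G))) :
    ¬ p ∣ (Subgroup.centralizer ({s} : Set (Subgroup.centralizer ({x} : Set G)))).index := by
  have hxs : x ∈ Subgroup.centralizer ({(s : G)} : Set G) := by
    rw [Subgroup.mem_centralizer_singleton_iff]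
    have := Subgroup.mem_centralizer_singleton_iff.1 s.2
    exact this.symm
  -- a subgroup of order `p ^ 2` of the centralizer of `s` with `x`
  obtain ⟨Q, hQ, hxQ⟩ := Sylow.exists_subgroup_card_pow_prime_le p h
    (Subgroup.zpowers (⟨x, hxs⟩ : Subgroup.centralizer ({(s : G)} : Set G)))
    (n := 1) (by rw [Nat.card_zpowers, Subgroup.orderOf_mk, hxo, pow_one]) one_le_two
  have hcomm : ∀ a b : Q, a * b = b * a := (IsPGroup.isMulCommutative_of_card_eq_prime_sq hQ).is_comm.comm
  have hxQ' : (⟨x, hxs⟩ : Subgroup.centralizer ({(s : G)} : Set G)) ∈ Q := hxQ (Subgroup.mem_zpowers _)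
  have hqx : ∀ q : Q, ((q : Subgroup.centralizer ({(s : G)} : Set G)) : G) ∈ Subgroup.centralizer ({x} : Set G) := by
    intro q
    rw [Subgroup.mem_centralizer_singleton_iff]
    have := congrArg (fun z : Q => ((z : Subgroup.centralizer ({(s : G)} : Set G)) : G)) (hcomm q ⟨_, hxQ'⟩)
    simpa using this
  let f : Q →* (Subgroup.centralizer ({s} : Set (Subgroup.centralizer ({x} : Set G)))) :=
    { toFun := fun q => ⟨⟨q, hqx q⟩, by
        rw [Subgroup.mem_centralizer_singleton_iff]
        apply Subtype.ext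
        exact Subgroup.mem_centralizer_singleton_iff.1 (q : Subgroup.centralizer ({(s : G)} : Set G)).2⟩
      map_one' := rfl
      map_mul' := fun _ _ => rfl }
  have hf : Function.Injective f := by
    intro a b hab
    apply Subtype.ext
    apply Subtype.ext
    exact congrArg (fun z : (Subgroup.centralizer ({s} : Set (Subgroup.centralizer ({x} : Set G)))) =>
      ((z : Subgroup.centralizer ({x} : Set G)) : G)) hab
  have h1 : p ^ 2 ∣ Nat.card (Subgroup.centralizer ({s} : Set (Subgroup.centralizer ({x} : Set G)))) := by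
    rw [← hQ]
    exact Subgroup.card_dvd_of_injective f hf
  intro h2
  have h3 : p ^ 3 ∣ Nat.card (Subgroup.centralizer ({x} : Set G)) := by
    rw [← Subgroup.card_mul_index (Subgroup.centralizer ({s} : Set (Subgroup.centralizer ({x} : Set G))))]
    rw [pow_succ]
    exact mul_dvd_mul h1 h2
  have h4 : p ^ 3 ∣ Nat.card G := h3.trans (Subgroup.card_subgroup_dvd_card _)
  have h5 : Nat.card P = p ^ (Nat.card G).factorization p := P.card_eq_multiplicity
  rw [hP] at h5
  have h6 : (Nat.card G).factorization p = 2 := (Nat.pow_right_injective hp.out.two_le h5).symm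
  have h7 := (hp.out.pow_dvd_iff_le_factorization Nat.card_pos.ne').1 h4
  omega

omit [Finite G] in
/-- conjugate elements have centralizers of the same order -/
theorem card_centralizer_conj (g s : G) : Nat.card (Subgroup.centralizer ({g * s * g⁻¹} : Set G)) =
    Nat.card (Subgroup.centralizer ({s} : Set G)) := by
  have h : (Subgroup.centralizer ({s} : Set G)).map (MulAut.conj g).toMonoidHom =
      Subgroup.centralizer ({g * s * g⁻¹} : Set G) := by
    ext z
    rw [Subgroup.mem_map, Subgroup.mem_centralizer_singleton_iff]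
    constructor
    · rintro ⟨y, hy, rfl⟩
      have hy' := Subgroup.mem_centralizer_singleton_iff.1 hy
      change (g * y * g⁻¹) * (g * s * g⁻¹) = (g * s * g⁻¹) * (g * y * g⁻¹)
      calc (g * y * g⁻¹) * (g * s * g⁻¹) = g * (y * s) * g⁻¹ := by group
        _ = g * (s * y) * g⁻¹ := by rw [hy']
        _ = (g * s * g⁻¹) * (g * y * g⁻¹) := by group
    · intro hz
      refine ⟨g⁻¹ * z * g, ?_, ?_⟩
      · rw [Subgroup.mem_centralizer_singleton_iff]
        calc g⁻¹ * z * g * s = g⁻¹ * (z * (g * s * g⁻¹)) * g := by group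
          _ = g⁻¹ * ((g * s * g⁻¹) * z) * g := by rw [hz]
          _ = s * (g⁻¹ * z * g) := by group
      · change g * (g⁻¹ * z * g) * g⁻¹ = z
        group
  rw [← h]
  exact Subgroup.card_map_of_injective (MulAut.conj g).injective

variable {M : Ideal AlgInt} {V : ValuationSubring ℂ}

/-- B7. `G`-stability of the reductions, from the stability under `N_G(⟨x⟩)`. -/
theorem stable (hM : IsPModular p M) (hV : Above M V) (P : Sylow p G) (hP : Nat.card P = p ^ 2)
    {x : G} (hxo : orderOf x = p)
    {ψ : IrrCharacter (Subgroup.centralizer ({x} : Set G))}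
    (hψ : ψ ∈ principalBlock M (Subgroup.centralizer ({x} : Set G)))
    (htriv : ∀ n ∈ Subgroup.normalizer ((Subgroup.zpowers x : Subgroup G) : Set G),
      ∀ s s' : Subgroup.centralizer ({x} : Set G), ¬ p ∣ orderOf s → (s' : G) = n * s * n⁻¹ →
        (ψ : Subgroup.centralizer ({x} : Set G) → ℂ) s' =
          (ψ : Subgroup.centralizer ({x} : Set G) → ℂ) s)
    (s s' : Subgroup.centralizer ({x} : Set G)) (hs : ¬ p ∣ orderOf s)
    (hc : IsConj (s : G) (s' : G)) :
    rd V (ψ : Subgroup.centralizer ({x} : Set G) → ℂ) s' =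
      rd V (ψ : Subgroup.centralizer ({x} : Set G) → ℂ) s := by
  obtain ⟨g, hg⟩ := isConj_iff.1 hc
  have hcard : Nat.card (Subgroup.centralizer ({(s' : G)} : Set G)) =
      Nat.card (Subgroup.centralizer ({(s : G)} : Set G)) := by
    rw [← hg]
    exact card_centralizer_conj g s
  by_cases h : p ^ 2 ∣ Nat.card (Subgroup.centralizer ({(s : G)} : Set G))
  · rw [rd_eq_one hM hV hψ (not_dvd_index P hP hxo s h),
      rd_eq_one hM hV hψ (not_dvd_index P hP hxo s' (by rw [hcard]; exact h))]
  · -- two Sylow subgroups of the centralizer of `s'`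
    have hxs' : x ∈ Subgroup.centralizer ({(s' : G)} : Set G) := by
      rw [Subgroup.mem_centralizer_singleton_iff]
      exact (Subgroup.mem_centralizer_singleton_iff.1 s'.2).symm
    have hxs : x * (s : G) = (s : G) * x := (Subgroup.mem_centralizer_singleton_iff.1 s.2).symm
    have hgs' : g * x * g⁻¹ ∈ Subgroup.centralizer ({(s' : G)} : Set G) := by
      rw [Subgroup.mem_centralizer_singleton_iff, ← hg]
      calc (g * x * g⁻¹) * (g * s * g⁻¹) = g * (x * s) * g⁻¹ := by group
        _ = g * (s * x) * g⁻¹ := by rw [hxs]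
        _ = (g * s * g⁻¹) * (g * x * g⁻¹) := by group
    have hX : Nat.card (Subgroup.zpowers (⟨x, hxs'⟩ : Subgroup.centralizer ({(s' : G)} : Set G))) = p := by
      rw [Nat.card_zpowers, Subgroup.orderOf_mk, hxo]
    have hY : Nat.card (Subgroup.zpowers (⟨g * x * g⁻¹, hgs'⟩ : Subgroup.centralizer ({(s' : G)} : Set G))) = p := by
      rw [Nat.card_zpowers, Subgroup.orderOf_mk]
      rw [← hxo]
      exact orderOf_injective (MulAut.conj g).toMonoidHom (MulAut.conj g).injective x
    obtain ⟨c, hc'⟩ := Cfsg.Agent.H836.Sylow.conj_of_card hp.out (by rw [hcard]; exact h) hY hX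
    have h1 : c * (⟨g * x * g⁻¹, hgs'⟩ : Subgroup.centralizer ({(s' : G)} : Set G)) * c⁻¹ ∈
        Subgroup.zpowers (⟨x, hxs'⟩ : Subgroup.centralizer ({(s' : G)} : Set G)) := by
      rw [← hc']
      exact ⟨_, Subgroup.mem_zpowers _, rfl⟩
    obtain ⟨k, hk⟩ := Subgroup.mem_zpowers_iff.1 h1
    have h2 : x ^ k = (c : G) * (g * x * g⁻¹) * (c : G)⁻¹ := by
      have := congrArg (fun z : Subgroup.centralizer ({(s' : G)} : Set G) => (z : G)) hk
      simpa using this
    -- the element of the normalizer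
    set n : G := (c : G) * g with hn
    have h3 : n * x * n⁻¹ = x ^ k := by
      rw [h2, hn]
      group
    have hle : (Subgroup.zpowers x).map (MulAut.conj n).toMonoidHom ≤ Subgroup.zpowers x := by
      rw [MonoidHom.map_zpowers, Subgroup.zpowers_le]
      change n * x * n⁻¹ ∈ Subgroup.zpowers x
      rw [h3]
      exact Subgroup.zpow_mem _ (Subgroup.mem_zpowers x) k
    have heq : (Subgroup.zpowers x).map (MulAut.conj n).toMonoidHom = Subgroup.zpowers x := by
      apply Subgroup.eq_of_le_of_card_ge hle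
      rw [Subgroup.card_map_of_injective (MulAut.conj n).injective]
    have hnN : n ∈ Subgroup.normalizer ((Subgroup.zpowers x : Subgroup G) : Set G) := by
      rw [Subgroup.mem_normalizer_iff]
      intro z
      constructor
      · intro hz
        have hz' : MulAut.conj n z ∈ (Subgroup.zpowers x).map (MulAut.conj n).toMonoidHom := ⟨z, hz, rfl⟩
        rw [heq] at hz'
        exact hz'
      · intro hz
        have hz' : MulAut.conj n z ∈ Subgroup.zpowers x := hz
        rw [← heq] at hz'
        obtain ⟨w, hw, hwz⟩ := hz'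
        have : w = z := (MulAut.conj n).injective hwz
        rw [← this]
        exact hw
    have hcs' : (c : G) * (s' : G) * (c : G)⁻¹ = s' := by
      rw [mul_inv_eq_iff_eq_mul]
      exact Subgroup.mem_centralizer_singleton_iff.1 c.2
    have h4 : (s' : G) = n * s * n⁻¹ := by
      calc (s' : G) = (c : G) * (s' : G) * (c : G)⁻¹ := hcs'.symm
        _ = (c : G) * (g * s * g⁻¹) * (c : G)⁻¹ := congrArg (fun z : G => (c : G) * z * (c : G)⁻¹) hg.symm
        _ = n * s * n⁻¹ := by rw [hn]; group
    have h5 := htriv n hnN s s' hs h4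
    unfold rd
    rw [h5]

end B

end Cfsg.Agent.H417.OneP
end

-- part: H590/OneP/NormalTriv
section
/-!
# S4880, piece B8b: normal subgroups with Sylow `p`-subgroup of order `p` and large inertial index
-/

set_option autoImplicit false

open Cfsg

namespace Cfsg.Agent.H590.OneP

universe u

variable {p : ℕ} [hp : Fact p.Prime] {M : Ideal AlgInt}

/-- `|N_X(P) : C_X(P)|` divides `p - 1` if `|P| = p`. -/
theorem relIndex_dvd_pred {X : Type u} [Group X] [Finite X] (P : Subgroup X)
    (hP : Nat.card P = p) :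
    (Subgroup.centralizer (P : Set X)).relIndex (Subgroup.normalizer (P : Set X)) ∣ p - 1 := by
  have key := Subgroup.card_dvd_of_injective _
    (QuotientGroup.kerLift_injective P.normalizerMonoidHom)
  rw [Subgroup.normalizerMonoidHom_ker, ← Subgroup.index, ← Subgroup.relIndex] at key
  have : IsCyclic P := isCyclic_of_prime_card hP
  rwa [IsCyclic.card_mulAut, hP, Nat.totient_prime hp.out] at key

/-- The normalizer of `P` normalizes `C_X(P)`. -/
theorem conj_mem_centralizer {X : Type u} [Group X] {P : Subgroup X} {n z : X}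
    (hn : n ∈ Subgroup.normalizer (P : Set X)) (hz : z ∈ Subgroup.centralizer (P : Set X)) :
    n * z * n⁻¹ ∈ Subgroup.centralizer (P : Set X) := by
  rw [Subgroup.mem_centralizer_iff] at hz ⊢
  intro y hy
  have h1 : n⁻¹ * y * n ∈ P := by
    have := (Subgroup.mem_normalizer_iff.1 (Subgroup.inv_mem _ hn) y).1 hy
    rwa [inv_inv] at this
  have h2 := hz _ h1
  calc y * (n * z * n⁻¹) = n * ((n⁻¹ * y * n) * z) * n⁻¹ := by group
    _ = n * (z * (n⁻¹ * y * n)) * n⁻¹ := by rw [h2]
    _ = n * z * n⁻¹ * y := by group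

/-- `C C_X(P)` is normal in `X` if `P ≤ C` is a Sylow `p`-subgroup and `C` is normal. -/
theorem normal_sup {X : Type u} [Group X] [Finite X] (C : Subgroup X) [hC : C.Normal]
    (P : Sylow p X) (hPC : (P : Subgroup X) ≤ C) :
    (C ⊔ Subgroup.centralizer ((P : Subgroup X) : Set X)).Normal := by
  have hF := Sylow.normalizer_sup_eq_top' P hPC
  rw [← Subgroup.normalizer_eq_top_iff, eq_top_iff, ← hF, sup_le_iff]
  constructor
  · intro n hn
    have key : ∀ n ∈ Subgroup.normalizer ((P : Subgroup X) : Set X),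
        ∀ x ∈ C ⊔ Subgroup.centralizer ((P : Subgroup X) : Set X),
          n * x * n⁻¹ ∈ C ⊔ Subgroup.centralizer ((P : Subgroup X) : Set X) := by
      intro n hn x hx
      rw [← SetLike.mem_coe, Subgroup.normal_mul] at hx
      obtain ⟨c, hc, z, hz, rfl⟩ := Set.mem_mul.1 hx
      have h1 : n * (c * z) * n⁻¹ = (n * c * n⁻¹) * (n * z * n⁻¹) := by group
      rw [h1]
      exact Subgroup.mul_mem_sup (hC.conj_mem c hc n) (conj_mem_centralizer hn hz)
    rw [Subgroup.mem_normalizer_iff]
    intro x
    refine ⟨key n hn x, fun hx => ?_⟩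
    have h2 := key n⁻¹ (Subgroup.inv_mem _ hn) _ hx
    have h3 : n⁻¹ * (n * x * n⁻¹) * n⁻¹⁻¹ = x := by group
    rwa [h3] at h2
  · exact le_sup_left.trans Subgroup.le_normalizer

/-- The index of `C C_X(P)`: `1`, or `2` and then the inertial index of `X` is `p - 1`. -/
theorem index_cases {X : Type u} [Group X] [Finite X]
    (C : Subgroup X) [C.Normal] (P : Sylow p X) (hP : Nat.card P = p) (hPC : (P : Subgroup X) ≤ C)
    (hE : p - 1 ≤ 2 * (Subgroup.centralizer ((P : Subgroup X) : Set X)).relIndex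
      (Subgroup.normalizer ((P : Subgroup X) : Set X) ⊓ C)) :
    (C ⊔ Subgroup.centralizer ((P : Subgroup X) : Set X)).index = 1 ∨
      ((C ⊔ Subgroup.centralizer ((P : Subgroup X) : Set X)).index = 2 ∧
        (Subgroup.centralizer ((P : Subgroup X) : Set X)).relIndex
          (Subgroup.normalizer ((P : Subgroup X) : Set X)) = p - 1) := by
  have hAn := normal_sup C P hPC
  set Z := Subgroup.centralizer ((P : Subgroup X) : Set X) with hZ
  set N := Subgroup.normalizer ((P : Subgroup X) : Set X) with hN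
  set A := C ⊔ Z with hA
  have hZN : Z ≤ N := by
    intro z hz
    rw [hN, Subgroup.mem_normalizer_iff]
    have hz' := Subgroup.mem_centralizer_iff.1 hz
    have hz2 := Subgroup.mem_centralizer_iff.1 (Subgroup.inv_mem _ hz)
    intro x
    constructor
    · intro hx
      have h1 : z * x * z⁻¹ = x := by
        rw [← hz' x hx]; group
      rwa [h1]
    · intro hx
      have h1 : x = z * x * z⁻¹ := by
        have := hz2 _ hx
        calc x = z⁻¹ * (z * x * z⁻¹) * z := by group
          _ = z * x * z⁻¹ * z⁻¹ * z := by rw [← this]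
          _ = z * x * z⁻¹ := by group
      rwa [h1]
  have hAN : A ⊔ N = ⊤ := by
    rw [eq_top_iff, ← Sylow.normalizer_sup_eq_top' P hPC, sup_comm]
    exact sup_le_sup_right le_sup_left _
  have h1 : A.index = A.relIndex N := by
    rw [← Subgroup.relIndex_top_right, ← hAN, Subgroup.relIndex_sup_left]
  have h2 : Z.relIndex (A ⊓ N) * (A ⊓ N).relIndex N = Z.relIndex N :=
    Subgroup.relIndex_mul_relIndex _ _ _ (le_inf le_sup_right hZN) inf_le_right
  rw [Subgroup.inf_relIndex_right, ← h1] at h2
  have h3 : Z.relIndex N ∣ p - 1 := relIndex_dvd_pred (P : Subgroup X) hP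
  have hp1 : 0 < p - 1 := Nat.sub_pos_of_lt hp.out.one_lt
  have h4 : Z.relIndex (N ⊓ C) ≤ Z.relIndex (A ⊓ N) := by
    refine Subgroup.relIndex_le_of_le_right ?_ Subgroup.index_ne_zero_of_finite
    exact le_inf (inf_le_right.trans le_sup_left) inf_le_left
  have h5 : Z.relIndex N ≤ p - 1 := Nat.le_of_dvd hp1 h3
  have h6 : 0 < Z.relIndex (A ⊓ N) := Nat.pos_of_ne_zero Subgroup.index_ne_zero_of_finite
  have h7 : 0 < A.index := Nat.pos_of_ne_zero Subgroup.index_ne_zero_of_finite
  have h8 : A.index ≤ 2 := by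
    by_contra h
    push Not at h
    have : Z.relIndex (A ⊓ N) * 3 ≤ Z.relIndex (A ⊓ N) * A.index := Nat.mul_le_mul_left _ h
    omega
  rcases (by omega : A.index = 1 ∨ A.index = 2) with h | h
  · exact Or.inl h
  · refine Or.inr ⟨h, ?_⟩
    rw [h] at h2
    omega

/-- Every character of `B₀(C)` is the restriction of one of `B₀(C C_X(P))`. -/
theorem exists_ext {X : Type u} [Group X] [Finite X] (hM : IsPModular p M)
    (C : Subgroup X) [hC : C.Normal] (P : Sylow p X) (hPC : (P : Subgroup X) ≤ C)
    {A : Subgroup X} (hA : A = C ⊔ Subgroup.centralizer ((P : Subgroup X) : Set X))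
    {ψ : IrrCharacter C} (hψ : ψ ∈ principalBlock M C) :
    ∃ θ : IrrCharacter A, θ ∈ principalBlock M A ∧
      ∀ (s : C) (hs : (s : X) ∈ A), (θ : A → ℂ) ⟨s, hs⟩ = (ψ : C → ℂ) s := by
  classical
  have := Blocks.Local.isPrime_of_isPModular hM
  have hCA : C ≤ A := by rw [hA]; exact le_sup_left
  let e : C.subgroupOf A ≃* C := Subgroup.subgroupOfEquivOfLe hCA
  have hmem := H133.PB.mem_principalBlock_comp (M := M) e.toMonoidHom e.surjective hψ
  have : (C.subgroupOf A).Normal := inferInstance
  have hPA : (P : Subgroup X) ≤ A := hPC.trans hCA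
  have hidx : ¬ p ∣ (C.subgroupOf A).index := by
    intro h
    have h1 : p ∣ C.index := h.trans (by
      rw [← Subgroup.relIndex]
      exact Subgroup.relIndex_dvd_index_of_normal C A)
    exact P.not_dvd_index (h1.trans (Subgroup.index_dvd_of_le hPC))
  have hsup : C.subgroupOf A ⊔
      Subgroup.centralizer (((P.subtype hPA : Sylow p A) : Subgroup A) : Set A) = ⊤ := by
    rw [eq_top_iff]
    rintro ⟨x, hx⟩ -
    have hx' := hx
    rw [hA, ← SetLike.mem_coe, Subgroup.normal_mul] at hx'
    obtain ⟨c, hc, z, hz, rfl⟩ := Set.mem_mul.1 hx'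
    have hcA : c ∈ A := hCA hc
    have hzA : z ∈ A := by rw [hA]; exact (le_sup_right : _ ≤ C ⊔ _) hz
    have h1 : (⟨c * z, hx⟩ : A) = ⟨c, hcA⟩ * ⟨z, hzA⟩ := rfl
    rw [h1]
    refine Subgroup.mul_mem_sup (Subgroup.mem_subgroupOf.2 hc) ?_
    rw [Subgroup.mem_centralizer_iff]
    intro y hy
    apply Subtype.ext
    have hy' : (y : X) ∈ (P : Subgroup X) := by
      have : y ∈ ((P.subtype hPA : Sylow p A) : Subgroup A) := hy
      rw [Sylow.coe_subtype, Subgroup.mem_subgroupOf] at this
      exact this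
    exact (Subgroup.mem_centralizer_iff.1 hz) _ hy'
  have := Fintype.ofFinite (C.subgroupOf A)
  obtain ⟨θ, hθ, hover⟩ := H685.Alperin.exists_over hM hidx (P.subtype hPA) hsup hmem
  have hirr := H685.Alperin.isIrr_restrict hM (P.subtype hPA) hsup hθ
  refine ⟨θ, hθ, fun s hs => ?_⟩
  have heq : ((ψ : C → ℂ) ∘ e.toMonoidHom : C.subgroupOf A → ℂ) =
      (fun n : C.subgroupOf A => (θ : A → ℂ) n) := by
    by_contra hne
    exact hover (Cfsg.Agent.Characters.Core.classInner_irr_ne
      (Cfsg.Agent.Characters.Core.isIrr_comp e.toMonoidHom e.surjective ψ.2) hirr hne)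
  have h1 := congrFun heq ⟨⟨s, hs⟩, Subgroup.mem_subgroupOf.2 s.2⟩
  exact h1.symm

/-- B8b, relative to B8a (`index_two`) for the group `X`. -/
theorem normal_triv_of {X : Type u} [Group X] [Finite X] (hM : IsPModular p M)
    (htwo : ∀ (A : Subgroup X) [A.Normal], A.index = 2 → ∀ (P : Sylow p X), Nat.card P = p →
      Subgroup.centralizer ((P : Subgroup X) : Set X) ≤ A →
      (Subgroup.centralizer ((P : Subgroup X) : Set X)).relIndex
        (Subgroup.normalizer ((P : Subgroup X) : Set X)) = p - 1 →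
      ∀ (θ : IrrCharacter A), θ ∈ principalBlock M A → ∀ (c : X) (s s' : A),
        ¬ p ∣ orderOf s → (s' : X) = c * s * c⁻¹ → (θ : A → ℂ) s' = (θ : A → ℂ) s)
    (C : Subgroup X) [C.Normal] (P : Sylow p X) (hP : Nat.card P = p) (hPC : (P : Subgroup X) ≤ C)
    (hE : p - 1 ≤ 2 * (Subgroup.centralizer ((P : Subgroup X) : Set X)).relIndex
      (Subgroup.normalizer ((P : Subgroup X) : Set X) ⊓ C))
    {ψ : IrrCharacter C} (hψ : ψ ∈ principalBlock M C) (c : X) (s s' : C) (hs : ¬ p ∣ orderOf s)
    (hc : (s' : X) = c * s * c⁻¹) : (ψ : C → ℂ) s' = (ψ : C → ℂ) s := by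
  have hAn := normal_sup C P hPC
  have hcases := index_cases C P hP hPC hE
  obtain ⟨θ, hθ, hres⟩ := exists_ext hM C P hPC rfl hψ
  have hCA : C ≤ C ⊔ Subgroup.centralizer ((P : Subgroup X) : Set X) := le_sup_left
  rw [← hres s (hCA s.2), ← hres s' (hCA s'.2)]
  rcases hcases with h1 | ⟨h2, hX⟩
  · have htop := Subgroup.index_eq_one.1 h1
    have hcA : c ∈ C ⊔ Subgroup.centralizer ((P : Subgroup X) : Set X) := by rw [htop]; trivial
    have h3 : (⟨(s' : X), hCA s'.2⟩ : (C ⊔ Subgroup.centralizer ((P : Subgroup X) : Set X) :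
        Subgroup X)) = ⟨c, hcA⟩ * ⟨(s : X), hCA s.2⟩ * ⟨c, hcA⟩⁻¹ := Subtype.ext hc
    rw [h3]
    exact Cfsg.Agent.Characters.Core.isIrr_isClassFunction θ.2 _ _
  · refine htwo _ h2 P hP le_sup_right hX θ hθ c ⟨s, hCA s.2⟩ ⟨s', hCA s'.2⟩ ?_ hc
    rwa [Subgroup.orderOf_mk, Subgroup.orderOf_coe]

end Cfsg.Agent.H590.OneP
end

-- part: H590/OneP/IndexTwo
section
/-!
# S4880, pieces B8a and B8b: subgroups of index two, Sylow `p`-subgroup of order `p`
-/

set_option autoImplicit false

open Cfsg

namespace Cfsg.Agent.H590.OneP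

open Cfsg.Agent.Characters.Core Cfsg.Agent.Blocks
open scoped ComplexConjugate

universe u

section clifford

variable {X : Type u} [Group X] [Finite X] {A : Subgroup X} [A.Normal]

omit [Finite X] in
theorem inner_conj [Fintype A] {χ : X → ℂ} (hχ : IsClassFunction X χ) (n : X) (θ : IrrCharacter A) :
    classInner (fun a : A => χ a) (Covering.conjIrr A n θ : A → ℂ) =
      classInner (fun a : A => χ a) (θ : A → ℂ) := by
  rw [classInner_def, classInner_def]
  congr 1
  refine Fintype.sum_equiv (MulAut.conjNormal n : A ≃* A).toEquiv _ _ fun a => ?_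
  rw [Covering.conjIrr_apply]
  have h1 : χ ((MulAut.conjNormal n : A ≃* A).toEquiv a : A) = χ a := by
    have h2 : (((MulAut.conjNormal n : A ≃* A).toEquiv a : A) : X) = n * a * n⁻¹ :=
      MulAut.conjNormal_apply n a
    rw [h2]
    exact hχ a n
  rw [h1]
  rfl

/-- the number of characters over `θ` -/
theorem card_over_le [Fintype A] (hA : A.index = 2) (n : X) (θ : IrrCharacter A) [Fintype (IrrCharacter X)]
    (S : Finset (IrrCharacter X))
    (hS : ∀ χ ∈ S, classInner (fun a : A => (χ : X → ℂ) a) (θ : A → ℂ) ≠ 0) :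
    S.card ≤ 2 ∧ (Covering.conjIrr A n θ ≠ θ → S.card ≤ 1) := by
  classical
  have := Fintype.ofFinite X
  have := finite_irr (G := A)
  have := Fintype.ofFinite (IrrCharacter A)
  obtain ⟨c, hc, hc'⟩ := CharDeep.CliffordCorr.exists_nat_coeffs_indFun A (isIrr_isCharacter θ.2)
  choose d hd0 hd using fun η : IrrCharacter X => isIrr_apply_one η.2
  choose b hb0 hb using fun η : IrrCharacter A => isIrr_apply_one η.2
  have h1 := congrFun hc 1
  rw [CharactersDeep.NormalInd.indFun_one, hA, hb, Finset.sum_apply] at h1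
  simp only [Pi.smul_apply, smul_eq_mul, hd] at h1
  have h2 : 2 * b θ = ∑ η : IrrCharacter X, c η * d η := by exact_mod_cast h1
  have h3 : ∀ χ ∈ S, c χ ≠ 0 := by
    intro χ hχ h0
    apply hS χ hχ
    have h4 := hc' χ
    rw [h0, Nat.cast_zero] at h4
    rw [← classInner_conj_symm (θ : A → ℂ) (fun a : A => (χ : X → ℂ) a), h4, map_zero]
  -- degrees
  have h4 : ∀ χ ∈ S, b θ ≤ d χ ∧ (Covering.conjIrr A n θ ≠ θ → 2 * b θ ≤ d χ) := by
    intro χ hχ
    obtain ⟨m, hm⟩ := exists_nat_comb (isCharacter_comp A.subtype (isIrr_isCharacter χ.2))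
    have hmE : (fun a : A => (χ : X → ℂ) a) = ∑ η : IrrCharacter A, m η • (η : A → ℂ) := hm
    have hm1 : d χ = ∑ η : IrrCharacter A, m η * b η := by
      have h5 := congrFun hm 1
      rw [Function.comp_apply, map_one, hd, Finset.sum_apply] at h5
      have h6 : (d χ : ℂ) = ((∑ η : IrrCharacter A, m η * b η : ℕ) : ℂ) := by
        rw [h5]
        push_cast
        refine Finset.sum_congr rfl fun η _ => ?_
        rw [Pi.smul_apply, hb, nsmul_eq_mul]
      exact_mod_cast h6
    have hmθ : ∀ η : IrrCharacter A, classInner (fun a : A => (χ : X → ℂ) a) (η : A → ℂ) = m η := by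
      intro η
      rw [hmE, classInner_sum_nsmul_irr]
    have h7 : m θ ≠ 0 := by
      intro h0
      apply hS χ hχ
      rw [hmθ, h0, Nat.cast_zero]
    have h8 : m (Covering.conjIrr A n θ) ≠ 0 := by
      intro h0
      apply hS χ hχ
      rw [← inner_conj (isIrr_isClassFunction χ.2) n θ, hmθ, h0, Nat.cast_zero]
    have h9 : b (Covering.conjIrr A n θ) = b θ := by
      have := hb (Covering.conjIrr A n θ)
      rw [Covering.conjIrr_at_one, hb] at this
      exact_mod_cast this.symm
    constructor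
    · rw [hm1]
      calc b θ ≤ m θ * b θ := Nat.le_mul_of_pos_left _ (Nat.pos_of_ne_zero h7)
        _ ≤ _ := Finset.single_le_sum (f := fun η => m η * b η) (fun _ _ => Nat.zero_le _)
          (Finset.mem_univ _)
    · intro hne
      rw [hm1]
      have h10 : ∑ η ∈ ({Covering.conjIrr A n θ, θ} : Finset (IrrCharacter A)), m η * b η ≤
          ∑ η : IrrCharacter A, m η * b η := Finset.sum_le_sum_of_subset (Finset.subset_univ _)
      rw [Finset.sum_pair hne, h9] at h10
      refine le_trans ?_ h10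
      have h11 := Nat.le_mul_of_pos_left (b θ) (Nat.pos_of_ne_zero h7)
      have h12 := Nat.le_mul_of_pos_left (b θ) (Nat.pos_of_ne_zero h8)
      omega
  have h5 : ∀ w : ℕ, (∀ χ ∈ S, w * b θ ≤ d χ) → S.card * w ≤ 2 := by
    intro w hw
    have h6 : (S.card * w) * b θ ≤ 2 * b θ := by
      calc (S.card * w) * b θ = ∑ χ ∈ S, w * b θ := by rw [Finset.sum_const, smul_eq_mul, mul_assoc]
        _ ≤ ∑ χ ∈ S, c χ * d χ := Finset.sum_le_sum fun χ hχ =>
          (hw χ hχ).trans (Nat.le_mul_of_pos_left _ (Nat.pos_of_ne_zero (h3 χ hχ)))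
        _ ≤ ∑ χ : IrrCharacter X, c χ * d χ := Finset.sum_le_sum_of_subset (Finset.subset_univ _)
        _ = 2 * b θ := h2.symm
    exact Nat.le_of_mul_le_mul_right h6 (hb0 θ)
  constructor
  · have := h5 1 fun χ hχ => by rw [one_mul]; exact (h4 χ hχ).1
    omega
  · intro hne
    have := h5 2 fun χ hχ => (h4 χ hχ).2 hne
    omega

end clifford

variable {p : ℕ} [hp : Fact p.Prime] {M : Ideal AlgInt}

/-- The counting inequality. -/
theorem two_mul_card_le {X : Type u} [Group X] [Finite X] (hM : IsPModular p M) {A : Subgroup X}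
    [A.Normal] (hA : A.index = 2) (n : X) (S : Finset (IrrCharacter A))
    (hS : ∀ θ, θ ∈ S ↔ θ ∈ principalBlock M A ∧ Covering.conjIrr A n θ ≠ θ) :
    2 * Nat.card (principalBlock M X) + 3 * S.card ≤ 4 * Nat.card (principalBlock M A) := by
  classical
  have := Fintype.ofFinite X
  have := Fintype.ofFinite A
  have := finite_irr (G := A)
  have := Fintype.ofFinite (IrrCharacter A)
  have := finite_irr (G := X)
  have := Fintype.ofFinite (IrrCharacter X)
  set BX : Finset (IrrCharacter X) := Finset.univ.filter fun χ => χ ∈ principalBlock M X with hBX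
  set BA : Finset (IrrCharacter A) := Finset.univ.filter fun χ => χ ∈ principalBlock M A with hBA
  have hcX : Nat.card (principalBlock M X) = BX.card := by
    rw [Nat.card_eq_fintype_card]
    exact Fintype.card_subtype _
  have hcA : Nat.card (principalBlock M A) = BA.card := by
    rw [Nat.card_eq_fintype_card]
    exact Fintype.card_subtype _
  have hmA : ∀ θ, θ ∈ BA ↔ θ ∈ principalBlock M A := fun θ => by
    rw [hBA, Finset.mem_filter]
    exact ⟨fun h => h.2, fun h => ⟨Finset.mem_univ _, h⟩⟩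
  have hmX : ∀ θ, θ ∈ BX ↔ θ ∈ principalBlock M X := fun θ => by
    rw [hBX, Finset.mem_filter]
    exact ⟨fun h => h.2, fun h => ⟨Finset.mem_univ _, h⟩⟩
  let ov : IrrCharacter X → IrrCharacter A → Prop := fun χ θ =>
    classInner (fun a : A => (χ : X → ℂ) a) (θ : A → ℂ) ≠ 0
  let w : IrrCharacter A → ℕ := fun θ => if Covering.conjIrr A n θ = θ then 2 else 1
  have h1 : ∀ χ ∈ BX, 2 ≤ ∑ θ ∈ BA, if ov χ θ then w θ else 0 := by
    intro χ hχ
    -- a constituent
    obtain ⟨θ, hθ⟩ : ∃ θ, ov χ θ := by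
      by_contra hcon
      have h2 : ∀ θ : IrrCharacter A, classInner (fun a : A => (χ : X → ℂ) a) (θ : A → ℂ) = 0 := fun θ => by
        by_contra h
        exact hcon ⟨θ, h⟩
      obtain ⟨m, hm⟩ := exists_nat_comb (isCharacter_comp A.subtype (isIrr_isCharacter χ.2))
      have hmE : (fun a : A => (χ : X → ℂ) a) = ∑ η : IrrCharacter A, m η • (η : A → ℂ) := hm
      have h3 : ∀ θ, m θ = 0 := by
        intro θ
        have h4 := h2 θ
        rw [hmE, classInner_sum_nsmul_irr] at h4
        exact_mod_cast h4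
      have h5 := congrFun hmE 1
      simp only [h3, zero_smul, Finset.sum_const_zero, Pi.zero_apply] at h5
      exact isIrr_apply_one_ne_zero χ.2 h5
    have hθA : θ ∈ BA := (hmA θ).2
      (H611.CoverPrincipal.mem_principalBlock_of_over p hM A χ θ hθ ((hmX χ).1 hχ))
    by_cases hinv : Covering.conjIrr A n θ = θ
    · have h2 : (if ov χ θ then w θ else 0) = 2 := by
        rw [if_pos hθ]
        exact if_pos hinv
      rw [← h2]
      exact Finset.single_le_sum (f := fun θ => if ov χ θ then w θ else 0) (fun _ _ => Nat.zero_le _) hθA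
    · have hθ' : ov χ (Covering.conjIrr A n θ) := by
        show classInner (fun a : A => (χ : X → ℂ) a) (Covering.conjIrr A n θ : A → ℂ) ≠ 0
        rw [inner_conj (isIrr_isClassFunction χ.2)]
        exact hθ
      have hθA' : Covering.conjIrr A n θ ∈ BA :=
        (hmA _).2 (H611.CoverPrincipal.conjIrr_mem_principalBlock A n ((hmA θ).1 hθA))
      have h2 : ∑ θ ∈ ({Covering.conjIrr A n θ, θ} : Finset (IrrCharacter A)),
          (if ov χ θ then w θ else 0) ≤ ∑ θ ∈ BA, if ov χ θ then w θ else 0 := by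
        refine Finset.sum_le_sum_of_subset ?_
        intro η hη
        rw [Finset.mem_insert, Finset.mem_singleton] at hη
        rcases hη with rfl | rfl
        · exact hθA'
        · exact hθA
      refine le_trans ?_ h2
      rw [Finset.sum_pair hinv, if_pos hθ, if_pos hθ']
      have h3 : ∀ η, 1 ≤ w η := fun η => by
        show 1 ≤ if Covering.conjIrr A n η = η then 2 else 1
        split_ifs <;> omega
      have := h3 θ
      have := h3 (Covering.conjIrr A n θ)
      omega
  have h2 : 2 * BX.card ≤ ∑ θ ∈ BA, if Covering.conjIrr A n θ = θ then 4 else 1 := by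
    calc 2 * BX.card = ∑ χ ∈ BX, 2 := by rw [Finset.sum_const, smul_eq_mul, mul_comm]
      _ ≤ ∑ χ ∈ BX, ∑ θ ∈ BA, (if ov χ θ then w θ else 0) := Finset.sum_le_sum h1
      _ = ∑ θ ∈ BA, ∑ χ ∈ BX, (if ov χ θ then w θ else 0) := Finset.sum_comm
      _ ≤ ∑ θ ∈ BA, if Covering.conjIrr A n θ = θ then 4 else 1 := by
        refine Finset.sum_le_sum fun θ _ => ?_
        rw [← Finset.sum_filter, Finset.sum_const, smul_eq_mul]
        obtain ⟨h3, h4⟩ := card_over_le hA n θ (BX.filter fun χ => ov χ θ)
          fun χ hχ => (Finset.mem_filter.1 hχ).2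
        by_cases hinv : Covering.conjIrr A n θ = θ
        · have h5 : w θ = 2 := if_pos hinv
          rw [if_pos hinv, h5]
          omega
        · have h5 : w θ = 1 := if_neg hinv
          rw [if_neg hinv, h5]
          have := h4 hinv
          omega
  have h3 : ∑ θ ∈ BA, (if Covering.conjIrr A n θ = θ then 4 else 1) + 3 * S.card = 4 * BA.card := by
    have h4 : S = BA.filter fun θ => ¬ Covering.conjIrr A n θ = θ := by
      ext θ
      rw [hS, Finset.mem_filter, hmA]
    rw [h4, Finset.card_filter, Finset.mul_sum, ← Finset.sum_add_distrib]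
    rw [show 4 * BA.card = ∑ θ ∈ BA, 4 by rw [Finset.sum_const, smul_eq_mul, mul_comm]]
    refine Finset.sum_congr rfl fun θ _ => ?_
    by_cases hinv : Covering.conjIrr A n θ = θ
    · rw [if_pos hinv, if_neg (not_not.2 hinv), mul_zero, add_zero]
    · rw [if_neg hinv, if_pos hinv, mul_one]
  rw [hcX, hcA]
  omega

/-- The inertial index of a normal subgroup of index two containing `C_X(P)`. -/
theorem relIndex_half {X : Type u} [Group X] [Finite X]
    (A : Subgroup X) [A.Normal] (hA : A.index = 2) (P : Sylow p X) (hPA : (P : Subgroup X) ≤ A)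
    (hcA : Subgroup.centralizer ((P : Subgroup X) : Set X) ≤ A)
    (hX : (Subgroup.centralizer ((P : Subgroup X) : Set X)).relIndex
      (Subgroup.normalizer ((P : Subgroup X) : Set X)) = p - 1) :
    (Subgroup.centralizer (((P.subtype hPA : Sylow p A) : Subgroup A) : Set A)).relIndex
      (Subgroup.normalizer (((P.subtype hPA : Sylow p A) : Subgroup A) : Set A)) * 2 = p - 1 := by
  set Z := Subgroup.centralizer ((P : Subgroup X) : Set X) with hZ
  set N := Subgroup.normalizer ((P : Subgroup X) : Set X) with hN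
  have hZN : Z ≤ N := Subgroup.centralizer_le_normalizer _
  have h1 : Subgroup.centralizer (((P.subtype hPA : Sylow p A) : Subgroup A) : Set A) = Z.subgroupOf A := by
    ext a
    rw [Subgroup.mem_subgroupOf, hZ, Subgroup.mem_centralizer_iff, Subgroup.mem_centralizer_iff]
    constructor
    · intro h x hx
      exact congrArg Subtype.val (h ⟨x, hPA hx⟩ hx)
    · intro h x hx
      exact Subtype.ext (h x hx)
  have h2 : Subgroup.normalizer (((P.subtype hPA : Sylow p A) : Subgroup A) : Set A) = N.subgroupOf A := by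
    rw [Sylow.coe_subtype, ← Subgroup.subgroupOf_normalizer_eq hPA]
  have h3 : N.subgroupOf A = (N ⊓ A).subgroupOf A := by
    rw [Subgroup.inf_subgroupOf_right]
  rw [h1, h2, h3, Subgroup.relIndex_subgroupOf inf_le_right]
  have hAN : A ⊔ N = ⊤ := by
    rw [sup_comm]
    exact Sylow.normalizer_sup_eq_top' P hPA
  have h4 : A.index = A.relIndex N := by
    rw [← Subgroup.relIndex_top_right, ← hAN, Subgroup.relIndex_sup_left]
  have h5 : Z.relIndex (N ⊓ A) * (N ⊓ A).relIndex N = Z.relIndex N :=
    Subgroup.relIndex_mul_relIndex _ _ _ (le_inf hZN hcA) inf_le_left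
  rwa [Subgroup.inf_relIndex_left, ← h4, hA, hX] at h5

/-- B8a. Index two, Sylow `p`-subgroup of order `p`. -/
theorem index_two {X : Type u} [Group X] [Finite X] (hM : IsPModular p M) (hp2 : p ≠ 2)
    (A : Subgroup X) [A.Normal] (hA : A.index = 2) (P : Sylow p X) (hP : Nat.card P = p)
    (hcA : Subgroup.centralizer ((P : Subgroup X) : Set X) ≤ A)
    (hX : (Subgroup.centralizer ((P : Subgroup X) : Set X)).relIndex
      (Subgroup.normalizer ((P : Subgroup X) : Set X)) = p - 1)
    {θ : IrrCharacter A} (hθ : θ ∈ principalBlock M A) (c : X) (s s' : A) (hs : ¬ p ∣ orderOf s)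
    (hc : (s' : X) = c * s * c⁻¹) : (θ : A → ℂ) s' = (θ : A → ℂ) s := by
  classical
  have := Local.isPrime_of_isPModular hM
  have := Fintype.ofFinite X
  have := Fintype.ofFinite A
  have := finite_irr (G := A)
  have := Fintype.ofFinite (IrrCharacter A)
  have hcyc : IsCyclic P := isCyclic_of_prime_card hP
  -- a generator
  obtain ⟨u0, hu0⟩ := hcyc.exists_generator
  set u : X := (u0 : X) with hu
  have huP : u ∈ (P : Subgroup X) := u0.2
  have hgen : ∀ x ∈ (P : Subgroup X), x ∈ Subgroup.zpowers u := by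
    intro x hx
    obtain ⟨k, hk⟩ := hu0 ⟨x, hx⟩
    exact ⟨k, congrArg Subtype.val hk⟩
  have hou : orderOf u = p := by
    rw [hu, Subgroup.orderOf_coe]
    exact (orderOf_eq_card_of_forall_mem_zpowers hu0).trans hP
  have hPZ : (P : Subgroup X) ≤ Subgroup.centralizer ((P : Subgroup X) : Set X) := by
    intro x hx
    rw [Subgroup.mem_centralizer_iff]
    intro y hy
    obtain ⟨i, rfl⟩ := hgen x hx
    obtain ⟨j, rfl⟩ := hgen y hy
    show u ^ j * u ^ i = u ^ i * u ^ j
    rw [← zpow_add, ← zpow_add, add_comm]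
  have hPA : (P : Subgroup X) ≤ A := hPZ.trans hcA
  have hF : Subgroup.normalizer ((P : Subgroup X) : Set X) ⊔ A = ⊤ := Sylow.normalizer_sup_eq_top' P hPA
  obtain ⟨n, hn, hnA⟩ : ∃ n ∈ Subgroup.normalizer ((P : Subgroup X) : Set X), n ∉ A := by
    by_contra hcon
    push Not at hcon
    have h1 : Subgroup.normalizer ((P : Subgroup X) : Set X) ≤ A := hcon
    rw [sup_eq_right.2 h1] at hF
    rw [hF, Subgroup.index_top] at hA
    omega
  have huA : u ∈ A := hPA huP
  have hvA : n * u * n⁻¹ ∈ A := Subgroup.Normal.conj_mem inferInstance u huA n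
  set uA : A := ⟨u, huA⟩ with huAd
  set vA : A := ⟨n * u * n⁻¹, hvA⟩ with hvAd
  have hnconj : ¬ IsConj uA vA := by
    intro h
    obtain ⟨a, ha⟩ := isConj_iff.1 h
    have ha' : (a : X) * u * (a : X)⁻¹ = n * u * n⁻¹ := congrArg Subtype.val ha
    apply hnA
    have h1 : (a : X)⁻¹ * n ∈ Subgroup.centralizer ((P : Subgroup X) : Set X) := by
      have h2 : Commute ((a : X)⁻¹ * n) u := by
        show (a : X)⁻¹ * n * u = u * ((a : X)⁻¹ * n)
        calc (a : X)⁻¹ * n * u = (a : X)⁻¹ * (n * u * n⁻¹) * n := by group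
          _ = (a : X)⁻¹ * ((a : X) * u * (a : X)⁻¹) * n := by rw [ha']
          _ = u * ((a : X)⁻¹ * n) := by group
      rw [Subgroup.mem_centralizer_iff]
      intro y hy
      obtain ⟨j, rfl⟩ := hgen y hy
      exact (h2.zpow_right j).eq.symm
    have h3 := mul_mem a.2 (hcA h1)
    rwa [mul_inv_cancel_left] at h3
  -- orders
  have houA : orderOf uA = p := by rw [huAd, Subgroup.orderOf_mk, hou]
  have hovA : orderOf vA = p := by
    rw [hvAd, Subgroup.orderOf_mk]
    have : orderOf (n * u * n⁻¹) = orderOf u := orderOf_injective (MulAut.conj n).toMonoidHom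
      (MulAut.conj n).injective u
    rw [this, hou]
  have hB : IsPBlock M (principalBlock M A) := PrincipalSection.isPBlock_principalBlock
  have hR : ∀ g, MemLocalRing M (blockCoeff (principalBlock M A) g) :=
    fun g => Osima.memLocalRing_blockCoeff hM hB g
  have hsum : ∀ (f : IrrCharacter A → ℂ), ∑ᶠ χ ∈ principalBlock M A, f χ =
      ∑ χ ∈ Finset.univ.filter (fun χ => χ ∈ principalBlock M A), f χ := by
    intro f
    rw [finsum_mem_eq_finite_toFinset_sum _ (Set.toFinite _)]
    refine Finset.sum_congr ?_ fun _ _ => rfl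
    ext χ
    rw [Set.Finite.mem_toFinset, Finset.mem_filter]
    exact ⟨fun h => ⟨Finset.mem_univ _, h⟩, fun h => h.2⟩
  set BA : Finset (IrrCharacter A) := Finset.univ.filter fun χ => χ ∈ principalBlock M A with hBA
  have hmA : ∀ θ, θ ∈ BA ↔ θ ∈ principalBlock M A := fun θ => by
    rw [hBA, Finset.mem_filter]
    exact ⟨fun h => h.2, fun h => ⟨Finset.mem_univ _, h⟩⟩
  -- an element of the block with different values
  obtain ⟨η, hη, hηuv⟩ : ∃ η ∈ BA, (η : A → ℂ) uA ≠ (η : A → ℂ) vA := by
    by_contra hcon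
    push Not at hcon
    have h1 := Orthogonality.block_orthogonality hM (principalBlock M A) hR
      (PPart.isPPart_of_isPGroup ⟨1, by rw [houA, pow_one]⟩)
      (PPart.isPPart_of_isPGroup ⟨1, by rw [hovA, pow_one]⟩) hnconj
    rw [hsum] at h1
    have h2 : ∑ χ ∈ BA, ((Complex.normSq ((χ : A → ℂ) uA) : ℝ) : ℂ) = 0 := by
      rw [← h1]
      refine Finset.sum_congr rfl fun χ hχ => ?_
      rw [← hcon χ hχ, Complex.mul_conj]
    have h3 : ∑ χ ∈ BA, Complex.normSq ((χ : A → ℂ) uA) = 0 := by exact_mod_cast h2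
    have h4 := (Finset.sum_eq_zero_iff_of_nonneg fun χ _ => Complex.normSq_nonneg _).1 h3
      ⟨fun _ => 1, Basic.isIrrCharacter_one⟩ ((hmA _).2 PrincipalSection.one_mem_principalBlock)
    simp at h4
  -- the characters of the block which are not invariant
  set S : Finset (IrrCharacter A) := BA.filter fun θ => Covering.conjIrr A n θ ≠ θ with hS
  have hmS : ∀ θ, θ ∈ S ↔ θ ∈ principalBlock M A ∧ Covering.conjIrr A n θ ≠ θ := fun θ => by
    rw [hS, Finset.mem_filter, hmA]
  have hcount := two_mul_card_le hM hA n S hmS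
  have hkX := (Cfsg.Agent.S0960.result p M hM hp2 P hP (p - 1) hX).1
  have hp3 : 3 ≤ p := by
    have := hp.out.two_le
    omega
  rw [Nat.div_self (by omega)] at hkX
  have hhalf := relIndex_half A hA P hPA hcA hX
  have hPc : Nat.card (P.subtype hPA : Sylow p A) = p := by
    rw [Sylow.coe_subtype] at *
    exact (Nat.card_congr (Subgroup.subgroupOfEquivOfLe hPA).toEquiv).trans hP
  set e := (Subgroup.centralizer (((P.subtype hPA : Sylow p A) : Subgroup A) : Set A)).relIndex
      (Subgroup.normalizer (((P.subtype hPA : Sylow p A) : Subgroup A) : Set A)) with he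
  have hkA := (Cfsg.Agent.S0960.result p M hM hp2 (P.subtype hPA) hPc e he.symm).1
  have he0 : 0 < e := by omega
  have hdiv : (p - 1) / e = 2 := by
    rw [← hhalf, Nat.mul_div_cancel_left _ he0]
  rw [hdiv] at hkA
  have hScard : S.card ≤ 2 := by omega
  -- the two characters
  have hηv : ∀ a : A, (Covering.conjIrr A n η : A → ℂ) a =
      (η : A → ℂ) ⟨n * a * n⁻¹, Subgroup.Normal.conj_mem inferInstance (a : X) a.2 n⟩ := by
    intro a
    rw [Covering.conjIrr_apply]
    exact congrArg (η : A → ℂ) (Subtype.ext (MulAut.conjNormal_apply n a))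
  have hne : Covering.conjIrr A n η ≠ η := by
    intro h
    apply hηuv
    have h1 := hηv uA
    rw [h] at h1
    exact h1
  have hnn : n * n ∈ A := (Subgroup.mul_mem_iff_of_index_two hA).2 Iff.rfl
  have hconj2 : Covering.conjIrr A n (Covering.conjIrr A n η) = η := by
    rw [Covering.conjIrr_conjIrr]
    apply Subtype.ext
    funext a
    rw [Covering.conjIrr_apply]
    have h1 : MulAut.conjNormal (n * n) a = (⟨n * n, hnn⟩ : A) * a * (⟨n * n, hnn⟩ : A)⁻¹ :=
      Subtype.ext (MulAut.conjNormal_apply (n * n) a)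
    rw [h1]
    exact isIrr_isClassFunction η.2 _ _
  have hSeq : S = {Covering.conjIrr A n η, η} := by
    symm
    apply Finset.eq_of_subset_of_card_le
    · intro ζ hζ
      rw [Finset.mem_insert, Finset.mem_singleton] at hζ
      rcases hζ with rfl | rfl
      · rw [hmS]
        refine ⟨H611.CoverPrincipal.conjIrr_mem_principalBlock A n ((hmA η).1 hη), ?_⟩
        rw [hconj2]
        exact hne.symm
      · rw [hmS]
        exact ⟨(hmA _).1 hη, hne⟩
    · rw [Finset.card_pair hne]
      exact hScard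
  -- values at regular elements
  have key : ∀ t : A, ¬ p ∣ orderOf t → (Covering.conjIrr A n η : A → ℂ) t = (η : A → ℂ) t := by
    intro t ht
    have h1 := Orthogonality.weak_block_orthogonality hM (principalBlock M A) hR ht (y := uA) (by rw [houA])
    have h2 := Orthogonality.weak_block_orthogonality hM (principalBlock M A) hR ht (y := vA) (by rw [hovA])
    rw [hsum] at h1 h2
    have h3 : ∑ χ ∈ BA, (χ : A → ℂ) t * conj ((χ : A → ℂ) uA - (χ : A → ℂ) vA) = 0 := by
      rw [← sub_zero (0 : ℂ)]
      nth_rewrite 1 [← h1]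
      rw [← h2, ← Finset.sum_sub_distrib]
      refine Finset.sum_congr rfl fun χ _ => ?_
      rw [map_sub, mul_sub]
    have h4 : ∑ χ ∈ BA, (χ : A → ℂ) t * conj ((χ : A → ℂ) uA - (χ : A → ℂ) vA) =
        ∑ χ ∈ S, (χ : A → ℂ) t * conj ((χ : A → ℂ) uA - (χ : A → ℂ) vA) := by
      rw [hS, Finset.sum_filter (s := BA) (p := fun θ => Covering.conjIrr A n θ ≠ θ)]
      refine Finset.sum_congr rfl fun χ _ => ?_
      by_cases hinv : Covering.conjIrr A n χ = χ
      · rw [if_neg (not_not.2 hinv)]
        have h5 : (χ : A → ℂ) uA = (χ : A → ℂ) vA := by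
          have h6 : (Covering.conjIrr A n χ : A → ℂ) uA = (χ : A → ℂ) vA := by
            rw [Covering.conjIrr_apply]
            exact congrArg (χ : A → ℂ) (Subtype.ext (MulAut.conjNormal_apply n uA))
          rw [← h6, hinv]
        rw [h5, sub_self, map_zero, mul_zero]
      · rw [if_pos hinv]
    rw [h4, hSeq, Finset.sum_pair hne] at h3
    have h5 : (Covering.conjIrr A n η : A → ℂ) uA = (η : A → ℂ) vA := hηv uA
    have h6 : (Covering.conjIrr A n η : A → ℂ) vA = (η : A → ℂ) uA := by
      have h7 : (Covering.conjIrr A n (Covering.conjIrr A n η) : A → ℂ) uA =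
          (Covering.conjIrr A n η : A → ℂ) vA := by
        rw [Covering.conjIrr_apply]
        exact congrArg (Covering.conjIrr A n η : A → ℂ) (Subtype.ext (MulAut.conjNormal_apply n uA))
      rw [← h7, hconj2]
    rw [h5, h6] at h3
    have h7 : ((η : A → ℂ) t - (Covering.conjIrr A n η : A → ℂ) t) *
        conj ((η : A → ℂ) uA - (η : A → ℂ) vA) = 0 := by
      rw [← h3, map_sub, map_sub]
      ring
    rcases mul_eq_zero.1 h7 with h8 | h8
    · exact (sub_eq_zero.1 h8).symm
    · exfalso
      apply hηuv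
      rw [map_eq_zero] at h8
      exact sub_eq_zero.1 h8
  -- all members of the block are invariant on regular elements
  have key2 : ∀ χ ∈ BA, ∀ t : A, ¬ p ∣ orderOf t →
      (χ : A → ℂ) ⟨n * t * n⁻¹, Subgroup.Normal.conj_mem inferInstance (t : X) t.2 n⟩ = (χ : A → ℂ) t := by
    intro χ hχ t ht
    have h0 : (Covering.conjIrr A n χ : A → ℂ) t =
        (χ : A → ℂ) ⟨n * t * n⁻¹, Subgroup.Normal.conj_mem inferInstance (t : X) t.2 n⟩ := by
      rw [Covering.conjIrr_apply]
      exact congrArg (χ : A → ℂ) (Subtype.ext (MulAut.conjNormal_apply n t))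
    rw [← h0]
    by_cases hinv : Covering.conjIrr A n χ = χ
    · rw [hinv]
    · have h1 : χ ∈ S := (hmS χ).2 ⟨(hmA χ).1 hχ, hinv⟩
      rw [hSeq, Finset.mem_insert, Finset.mem_singleton] at h1
      rcases h1 with rfl | rfl
      · rw [hconj2]
        exact (key t ht).symm
      · exact key t ht
  -- the general element
  by_cases hcm : c ∈ A
  · have h1 : s' = (⟨c, hcm⟩ : A) * s * (⟨c, hcm⟩ : A)⁻¹ := Subtype.ext hc
    rw [h1]
    exact isIrr_isClassFunction θ.2 _ _
  · have h1 : c * n⁻¹ ∈ A := (Subgroup.mul_mem_iff_of_index_two hA).2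
      ⟨fun h => absurd h hcm, fun h => absurd (by simpa using inv_mem h) hnA⟩
    have h2 : s' = (⟨c * n⁻¹, h1⟩ : A) *
        ⟨n * s * n⁻¹, Subgroup.Normal.conj_mem inferInstance (s : X) s.2 n⟩ * (⟨c * n⁻¹, h1⟩ : A)⁻¹ := by
      apply Subtype.ext
      rw [hc]
      show c * s * c⁻¹ = c * n⁻¹ * (n * s * n⁻¹) * (c * n⁻¹)⁻¹
      group
    rw [h2, isIrr_isClassFunction θ.2, key2 θ ((hmA θ).2 hθ) s hs]

/-- B8b. Normal subgroup `C` with Sylow `p`-subgroup of order `p` and large inertial index. -/
theorem normal_triv {X : Type u} [Group X] [Finite X] (hM : IsPModular p M) (hp2 : p ≠ 2)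
    (C : Subgroup X) [C.Normal] (P : Sylow p X) (hP : Nat.card P = p) (hPC : (P : Subgroup X) ≤ C)
    (hE : p - 1 ≤ 2 * (Subgroup.centralizer ((P : Subgroup X) : Set X)).relIndex
      (Subgroup.normalizer ((P : Subgroup X) : Set X) ⊓ C))
    {ψ : IrrCharacter C} (hψ : ψ ∈ principalBlock M C) (c : X) (s s' : C) (hs : ¬ p ∣ orderOf s)
    (hc : (s' : X) = c * s * c⁻¹) : (ψ : C → ℂ) s' = (ψ : C → ℂ) s :=
  normal_triv_of hM (fun A _ hA P hP hcA hX _ hθ c s s' hs hc =>
    index_two hM hp2 A hA P hP hcA hX hθ c s s' hs hc) C P hP hPC hE hψ c s s' hs hc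

end Cfsg.Agent.H590.OneP
end

-- part: H634/OneP/Main
section
/-!
# S4880, block half: the principal block when `|P| = p ^ 2`
-/

set_option autoImplicit false

open Cfsg IsLocalRing

namespace Cfsg.Agent.H634.OneP

open Cfsg.Agent.H657

universe u

variable {G : Type u} [Group G] [Finite G] {p : ℕ} [hp : Fact p.Prime] {M : Ideal AlgInt}

theorem normalTriv : H426.OneP.NormalTriv.{u} p M := by
  intro X _ _ hM hp2 C _ P hP hPC hE ψ hψ c s s' hs hc
  exact H590.OneP.normal_triv hM hp2 C P hP hPC hE hψ c s s' hs hc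

/-- **The block half of S4880.** -/
theorem main (hM : IsPModular p M) (hp2 : p ≠ 2) (P : Sylow p G) (hP : Nat.card P = p ^ 2)
    (hel : ∀ x ∈ (P : Subgroup G), x ^ p = 1) {x : G} (hx : x ∈ (P : Subgroup G)) (hx1 : x ≠ 1)
    (e : ℕ) (he : e = (Subgroup.centralizer ((P : Subgroup G) : Set G)).relIndex
      (Subgroup.normalizer ((P : Subgroup G) : Set G) ⊓ Subgroup.centralizer ({x} : Set G)))
    (h2 : p - 1 ≤ 2 * e) :
    2 * e ≤ Nat.card (principalBlock M G) ∧
      (p % 4 = 3 → Odd e → Nat.card (principalBlock M G) ≠ 2 * e) := by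
  obtain ⟨V, hV⟩ := exists_above hM
  have hxo : orderOf x = p := by
    have h1 : orderOf x ∣ p := orderOf_dvd_of_pow_eq_one (hel x hx)
    rcases (Nat.dvd_prime hp.out).1 h1 with h | h
    · exact absurd (orderOf_eq_one_iff.1 h) hx1
    · exact h
  refine code hM hV ⟨1, by rw [hxo, pow_one]⟩ hx1 (fun ψ hψ s s' hs hc => ?_) e ?_
  · refine H417.OneP.stable hM hV P hP hxo hψ (fun n hn s s' hs hss => ?_) s s' hs hc
    exact H426.OneP.triv_of normalTriv hM hp2 P hP hel hx hx1 (by rw [← he]; exact h2) hψ hn s s' hs hss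
  · rw [H963.OneP.RankEq.rank_eq hM hp2 P hP hel hx hx1, ← he]

end Cfsg.Agent.H634.OneP
end

private theorem dce_a82734a1c1f8 : _root_.True := by
  try have : _root_.True := by simp only [_root_.Cfsg.Agent.Blocks.Covering.conjIrr.congr_simp]
  exact _root_.True.intro
end
end
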